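import Cfsg.Agent.Lib.SzChars.Cases

/-!
# The square of a class of elements of order above two covers a Suzuki group
-/

set_option autoImplicit false

namespace Cfsg.Agent.Lib.SzChars.Cover

open Cfsg.Agent.Lib.LieTwisted.Suzuki
open Cfsg.Agent.Lib.SzChars.Kinds Cfsg.Agent.Lib.SzChars.Values Cfsg.Agent.Lib.SzChars.Bounds
open Cfsg.Agent.Lib.SzChars.Cases

/-- Every non-identity element is a product of two conjugates of `x`. -/
theorem product_of_two {F : Type*} [Field F] [Fintype F] {m : ℕ} (h : IsSzField F m) (hm : 1 ≤ m)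
    {x : Cfsg.Sz F m} (hx : 2 < orderOf x) {g : Cfsg.Sz F m} (hg : g ≠ 1) :
    ∃ u v : Cfsg.Sz F m, g = (u * x * u⁻¹) * (v * x * v⁻¹) := by
  have := Fintype.ofFinite (Cfsg.Sz F m)
  have := Fintype.ofFinite (Cfsg.IrrCharacter (Cfsg.Sz F m))
  obtain ⟨TP, TM, hF⟩ := exists_frame h hm
  obtain ⟨W₁, W₂, hW⟩ := exists_completion h hm hF
  have hx1 : x ≠ 1 := fun e => by rw [e, orderOf_one] at hx; omega
  have hx2 : x ^ 2 ≠ 1 := fun e => absurd (orderOf_le_of_pow_eq_one two_pos e) (by omega)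
  refine exists_product x g (?_ : ∑ χ, term x g χ ≠ 0)
  rcases hF.cover x hx1 with z | z | z | z
  · exact case_four h hm hF hW z hx2 hg
  · exact case_split h hm hF hW z hg
  · exact case_plus h hm hF hW z hg
  · exact case_minus h hm hF hW z hg

end Cfsg.Agent.Lib.SzChars.Cover
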