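import Cfsg.Agent.Lib.SzChars.Family
import Cfsg.Agent.Lib.H80.ClassMult

/-!
# All irreducible characters of a Suzuki group
-/

set_option autoImplicit false
set_option linter.unusedSectionVars false

namespace Cfsg.Agent.Lib.SzChars.Table

open Cfsg.Agent.Lib.LieTwisted.Suzuki Cfsg.Agent.Lib.SzElements.Basic
open Cfsg.Agent.Lib.SzTori
open Cfsg.Agent.Lib.SzChars.TISum Cfsg.Agent.Lib.SzChars.Kinds Cfsg.Agent.Lib.SzChars.Family
open Cfsg.Agent.Lib.Characters.Basic
open scoped ComplexConjugate Classical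

variable {F : Type*} [Field F] [Fintype F] {m : ℕ}

variable (F m) in
/-- The parameters over the split torus. -/
def pC : Param := ⟨(Fintype.card F : ℤ) ^ 2 + 1, 1, 1, 1⟩

variable (F m) in
/-- The parameters over the torus of order `q + r + 1`. -/
def pP : Param :=
  ⟨((Fintype.card F : ℤ) - 2 ^ (m + 1) + 1) * ((Fintype.card F : ℤ) - 1), 2 ^ (m + 1) - 1, -1, -1⟩

variable (F m) in
/-- The parameters over the torus of order `q - r + 1`. -/
def pM : Param :=
  ⟨((Fintype.card F : ℤ) + 2 ^ (m + 1) + 1) * ((Fintype.card F : ℤ) - 1), -2 ^ (m + 1) - 1, -1, -1⟩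

variable [Fintype (Cfsg.Sz F m)] (h : IsSzField F m) (hm : 1 ≤ m)
  {TP TM : Subgroup (Cfsg.Sz F m)} (hF : Frame h TP TM)

include h hm

theorem int_facts :
    (2 : ℤ) ^ (m + 1) = 2 * 2 ^ m ∧ (Fintype.card F : ℤ) = 2 * (2 ^ m * 2 ^ m) ∧ 2 ≤ (2 : ℤ) ^ m ∧
      (Nat.card (Cfsg.Sz F m) : ℤ) =
        (Fintype.card F : ℤ) ^ 2 * ((Fintype.card F : ℤ) ^ 2 + 1) * ((Fintype.card F : ℤ) - 1) := by
  refine ⟨by ring, ?_, ?_, ?_⟩
  · rw [h.card]; push_cast; ring
  · calc (2 : ℤ) = 2 ^ 1 := by norm_num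
      _ ≤ 2 ^ m := pow_le_pow_right₀ (by norm_num) hm
  · rw [h.card_group hm]
    push_cast [Nat.cast_sub (show 1 ≤ Fintype.card F from Fintype.card_pos)]
    ring

include hF in
theorem card_casts :
    (Nat.card (dS h).range : ℤ) = (Fintype.card F : ℤ) - 1 ∧
    (Nat.card TP : ℤ) = (Fintype.card F : ℤ) + 2 ^ (m + 1) + 1 ∧
    (Nat.card TM : ℤ) = (Fintype.card F : ℤ) - 2 ^ (m + 1) + 1 := by
  obtain ⟨-, hlt, -, -, h8⟩ := r_facts h hm
  refine ⟨?_, ?_, ?_⟩
  · rw [card_range_dS h hm, Nat.cast_sub (by omega)]; norm_num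
  · rw [hF.plus.card]; push_cast; ring
  · rw [hF.minus.card, Nat.cast_add, Nat.cast_sub hlt.le]; push_cast; ring

include hF in
theorem good_C : Good h (dS h).range (Fintype.card F - 1) 2 (pC F) (TP := TP) (TM := TM) := by
  obtain ⟨hr, hq, hm2, hG⟩ := int_facts h hm
  obtain ⟨cC, cP, cM⟩ := card_casts h hm hF
  obtain ⟨o0, -, -⟩ := odd_facts h hm
  have hcast : ((Fintype.card F - 1 : ℕ) : ℤ) = (Fintype.card F : ℤ) - 1 := by
    rw [← cC, card_range_dS h hm]
  refine ⟨split_tor h hm, o0, Or.inl rfl, ⟨1, ?_⟩, ⟨2 ^ m, ?_⟩, ⟨(Fintype.card F : ℤ) + 1, ?_⟩, ?_, ?_, ?_, ?_⟩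
  · simp only [pC]; ring
  · simp only [pC]; ring
  · simp only [pC]; rw [hcast]; push_cast; ring
  · rintro S (rfl | rfl | rfl) hne
    · exact absurd (card_range_dS h hm) hne
    · refine ⟨(Fintype.card F : ℤ) - 2 ^ (m + 1) + 1, ?_⟩
      simp only [pC]; rw [cP, hr, hq]; ring
    · refine ⟨(Fintype.card F : ℤ) + 2 ^ (m + 1) + 1, ?_⟩
      simp only [pC]; rw [cM, hr, hq]; ring
  · simp [pC]
  · simp only [pC]; positivity
  · simp only [pC]; rw [hcast, hG]; push_cast; ring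

include hF in
theorem good_P : Good h TP (Fintype.card F + 2 ^ (m + 1) + 1) 4 (pP F m) (TP := TP) (TM := TM) := by
  obtain ⟨hr, hq, hm2, hG⟩ := int_facts h hm
  obtain ⟨cC, cP, cM⟩ := card_casts h hm hF
  obtain ⟨-, o1, -⟩ := odd_facts h hm
  have hcast : ((Fintype.card F + 2 ^ (m + 1) + 1 : ℕ) : ℤ) = (Fintype.card F : ℤ) + 2 ^ (m + 1) + 1 := by
    push_cast; ring
  refine ⟨hF.plus, o1, Or.inr (Or.inl rfl), ⟨1, ?_⟩, ⟨2 ^ m - 1, ?_⟩,
    ⟨(Fintype.card F : ℤ) - 2 * 2 ^ (m + 1) + 3, ?_⟩, ?_, ?_, ?_, ?_⟩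
  · simp only [pP]; ring
  · simp only [pP]; rw [hr, hq]; ring
  · simp only [pP]; rw [hcast, hr, hq]; push_cast; ring
  · rintro S (rfl | rfl | rfl) hne
    · exact ⟨(Fintype.card F : ℤ) - 2 ^ (m + 1) + 1, by simp only [pP]; rw [cC]; ring⟩
    · exact absurd hF.plus.card hne
    · exact ⟨(Fintype.card F : ℤ) - 1, by simp only [pP]; rw [cM]⟩
  · simp [pP]
  · simp only [pP]; rw [hr, hq]
    exact mul_pos (by nlinarith) (by nlinarith)
  · simp only [pP]; rw [hcast, hG, hr, hq]; push_cast; ring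

include hF in
theorem good_M : Good h TM (Fintype.card F - 2 ^ (m + 1) + 1) 4 (pM F m) (TP := TP) (TM := TM) := by
  obtain ⟨hr, hq, hm2, hG⟩ := int_facts h hm
  obtain ⟨cC, cP, cM⟩ := card_casts h hm hF
  obtain ⟨-, -, o2⟩ := odd_facts h hm
  have hcast : ((Fintype.card F - 2 ^ (m + 1) + 1 : ℕ) : ℤ) = (Fintype.card F : ℤ) - 2 ^ (m + 1) + 1 := by
    rw [← cM, hF.minus.card]
  refine ⟨hF.minus, o2, Or.inr (Or.inr rfl), ⟨1, ?_⟩, ⟨2 ^ m + 1, ?_⟩,
    ⟨(Fintype.card F : ℤ) + 2 * 2 ^ (m + 1) + 3, ?_⟩, ?_, ?_, ?_, ?_⟩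
  · simp only [pM]; ring
  · simp only [pM]; rw [hr, hq]; ring
  · simp only [pM]; rw [hcast, hr, hq]; push_cast; ring
  · rintro S (rfl | rfl | rfl) hne
    · exact ⟨(Fintype.card F : ℤ) + 2 ^ (m + 1) + 1, by simp only [pM]; rw [cC]; ring⟩
    · exact ⟨(Fintype.card F : ℤ) - 1, by simp only [pM]; rw [cP]⟩
    · exact absurd hF.minus.card hne
  · simp [pM]
  · simp only [pM]; rw [hr, hq]
    exact mul_pos (by nlinarith) (by nlinarith)
  · simp only [pM]; rw [hcast, hG, hr, hq]; push_cast; ring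

omit [Fintype (Cfsg.Sz F m)] h hm in
/-- The Steinberg character. -/
noncomputable def stFun (h : IsSzField F m) (g : Cfsg.Sz F m) : ℂ :=
  if g = 1 then (Fintype.card F : ℂ) ^ 2 else if g ^ 4 = 1 then 0
    else if g ∈ conjSet (dS h).range then 1 else -1

theorem stFun_classFun : Cfsg.IsClassFunction (Cfsg.Sz F m) (stFun h) := by
  intro g t
  have e1 : t * g * t⁻¹ = 1 ↔ g = 1 := conj_eq_one_iff
  have e4 : (t * g * t⁻¹) ^ 4 = 1 ↔ g ^ 4 = 1 := by rw [conj_pow, conj_eq_one_iff]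
  have e5 : t * g * t⁻¹ ∈ conjSet (dS h).range ↔ g ∈ conjSet (dS h).range := by
    constructor
    · rintro ⟨x, c, hc, h1, hx⟩
      refine ⟨t⁻¹ * x, c, hc, h1, ?_⟩
      rw [show t⁻¹ * x * c * (t⁻¹ * x)⁻¹ = t⁻¹ * (x * c * x⁻¹) * t by group, hx]; group
    · rintro ⟨x, c, hc, h1, rfl⟩
      exact ⟨t * x, c, hc, h1, by group⟩
  exact if_congr e1 rfl (if_congr e4 rfl (if_congr e5 rfl rfl))

theorem stFun_unip {c : Cfsg.Sz F m} (hc : c ∈ unip h) (hc1 : c ≠ 1) : stFun h c = 0 := by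
  rw [stFun, if_neg hc1, if_pos (pow_four_of_mem h hm hc)]

include hF in
theorem stFun_tor {S : Subgroup (Cfsg.Sz F m)} (hS : S = (dS h).range ∨ S = TP ∨ S = TM)
    {c : Cfsg.Sz F m} (hc : c ∈ S) (hc1 : c ≠ 1) :
    stFun h c = if S = (dS h).range then 1 else -1 := by
  obtain ⟨o0, o1, o2⟩ := odd_facts h hm
  obtain ⟨n0, n1, n2⟩ := torus_ne h hm
  have hmem : c ∈ conjSet S := ⟨1, c, hc, hc1, by group⟩
  have hC := split_tor h hm
  rcases hS with rfl | rfl | rfl
  · rw [stFun, if_neg hc1, if_neg (pow_four_tor h hm hC o0 hmem), if_pos hmem, if_pos rfl]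
  · rw [stFun, if_neg hc1, if_neg (pow_four_tor h hm hF.plus o1 hmem), if_neg, if_neg]
    · intro e; exact n0 (by rw [← hC.card, ← hF.plus.card, e])
    · intro z; exact n0 (by rw [← cen_card_tor hC z, ← cen_card_tor hF.plus hmem])
  · rw [stFun, if_neg hc1, if_neg (pow_four_tor h hm hF.minus o2 hmem), if_neg, if_neg]
    · intro e; exact n1 (by rw [← hC.card, ← hF.minus.card, e])
    · intro z; exact n1 (by rw [← cen_card_tor hC z, ← cen_card_tor hF.minus hmem])

include hF in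
theorem stFun_gen : Cfsg.IsGeneralizedCharacter (Cfsg.Sz F m) (stFun h) := by
  obtain ⟨hr, hq, hm2, -⟩ := int_facts h hm
  obtain ⟨cC, cP, cM⟩ := card_casts h hm hF
  refine isGeneralized_of_restrict h hm hF (stFun_classFun h hm) fun S hS => ?_
  rcases hS with rfl | hS
  · refine UChars.isGeneralized h hm (d := (Fintype.card F : ℤ) ^ 2) (u₂ := 0) (u₄ := 0) (k := 1) (k' := 2 ^ m)
      ?_ ?_ ?_ (by ring) (by ring)
    · show stFun h (1 : Cfsg.Sz F m) = _
      rw [stFun, if_pos rfl]; push_cast; ring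
    · intro c hc _
      rw [stFun_unip h hm c.2 (fun z => hc (Subtype.ext z))]; norm_num
    · intro c hc
      rw [stFun_unip h hm c.2 (fun z => hc (by rw [show c = 1 from Subtype.ext z, one_pow]))]; norm_num
  · obtain ⟨s, k, hs, hk⟩ : ∃ s k : ℤ, (if S = (dS h).range then (1 : ℂ) else -1) = s ∧
        (Fintype.card F : ℤ) ^ 2 - s = (Nat.card S : ℤ) * k := by
      obtain ⟨n0, n1, -⟩ := torus_ne h hm
      rcases hS with rfl | rfl | rfl
      · exact ⟨1, (Fintype.card F : ℤ) + 1, by simp, by rw [cC]; ring⟩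
      · refine ⟨-1, (Fintype.card F : ℤ) - 2 ^ (m + 1) + 1, ?_, by rw [cP, hr, hq]; ring⟩
        rw [if_neg]
        · norm_num
        · intro e; exact n0 (by rw [← hF.plus.card, ← card_range_dS h hm, e])
      · refine ⟨-1, (Fintype.card F : ℤ) + 2 ^ (m + 1) + 1, ?_, by rw [cM, hr, hq]; ring⟩
        rw [if_neg]
        · norm_num
        · intro e; exact n1 (by rw [← hF.minus.card, ← card_range_dS h hm, e])
    have heq : (fun c : ↥S => stFun h c) =
        (fun c : ↥S => if c = 1 then (Nat.card ↥S : ℂ) * k else 0) +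
          s • (fun c : ↥S => (((1 : ↥S →* ℂˣ) c : ℂˣ) : ℂ)) := by
      funext c
      simp only [Pi.add_apply, Pi.smul_apply, MonoidHom.one_apply, Units.val_one, zsmul_eq_mul, mul_one,
        Pi.mul_apply, Pi.intCast_apply]
      by_cases hc : c = 1
      · subst hc
        rw [if_pos rfl, Subgroup.coe_one, stFun, if_pos rfl]
        have := congrArg (Int.cast (R := ℂ)) hk
        push_cast at this
        linear_combination this
      · rw [if_neg hc, zero_add, stFun_tor h hm hF hS c.2 (fun z => hc (Subtype.ext z)), hs]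
    rw [heq]
    exact Cfsg.Agent.Lib.Characters.Generalized.add (gen_delta k)
      (Cfsg.Agent.Lib.Characters.Generalized.zsmul (gen_linear _) _)

omit h hm in
theorem sum_const_filter (T : Subgroup (Cfsg.Sz F m)) {f : Cfsg.Sz F m → ℂ} {v : ℂ}
    (hv : ∀ c ∈ T, c ≠ 1 → f c = v) :
    ∑ c ∈ Finset.univ.filter (fun c => c ∈ T ∧ c ≠ 1), f c = ((Nat.card T : ℂ) - 1) * v := by
  rw [Finset.sum_congr rfl fun c hc => hv c (Finset.mem_filter.1 hc).2.1 (Finset.mem_filter.1 hc).2.2,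
    Finset.sum_const, nsmul_eq_mul]
  congr 1
  have h1 : (Finset.univ.filter (fun c => c ∈ T ∧ c ≠ 1)) = (Finset.univ.filter (fun c => c ∈ T)).erase 1 := by
    ext c; simp [and_comm]
  rw [h1, Finset.card_erase_of_mem (by simp), ← Fintype.card_subtype, ← Nat.card_eq_fintype_card,
    Nat.cast_sub Nat.card_pos, Nat.cast_one]

include hF in
theorem stFun_norm : Cfsg.classInner (stFun h) (stFun h) = 1 := by
  obtain ⟨hr, hq, hm2, hG⟩ := int_facts h hm
  obtain ⟨cC, cP, cM⟩ := card_casts h hm hF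
  obtain ⟨n0, n1, -⟩ := torus_ne h hm
  have hφ : Cfsg.IsClassFunction (Cfsg.Sz F m) (fun g => stFun h g * conj (stFun h g)) := fun g t => by
    show stFun h (t * g * t⁻¹) * conj (stFun h (t * g * t⁻¹)) = _
    rw [stFun_classFun h hm g t]
  rw [Cfsg.classInner, sum_classFun h hm hF hφ,
    sum_unip h hm (u₂ := 0) (u₄ := 0) (fun c hc hc1 _ => by rw [stFun_unip h hm hc hc1, zero_mul])
      (fun c hc hc2 => by rw [stFun_unip h hm hc (fun z => hc2 (by rw [z, one_pow])), zero_mul]),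
    show ∑ c ∈ Finset.univ.filter (fun c => c ∈ (dS h).range ∧ c ≠ 1), stFun h c * conj (stFun h c) =
        ((Nat.card (dS h).range : ℂ) - 1) * 1 from by
      convert sum_const_filter (dS h).range (v := 1) (fun c hc hc1 => show stFun h c * conj (stFun h c) = 1 by
        rw [stFun_tor h hm hF (Or.inl rfl) hc hc1, if_pos rfl, map_one, mul_one]) using 2
      ext c; simp,
    sum_const_filter TP (v := 1) (fun c hc hc1 => by
      rw [stFun_tor h hm hF (Or.inr (Or.inl rfl)) hc hc1,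
        if_neg (fun e => n0 (by rw [← hF.plus.card, ← card_range_dS h hm, e]))]
      simp),
    sum_const_filter TM (v := 1) (fun c hc hc1 => by
      rw [stFun_tor h hm hF (Or.inr (Or.inr rfl)) hc hc1,
        if_neg (fun e => n1 (by rw [← hF.minus.card, ← card_range_dS h hm, e]))]
      simp),
    stFun, if_pos rfl]
  have hgne : (Nat.card (Cfsg.Sz F m) : ℂ) ≠ 0 := Nat.cast_ne_zero.2 Nat.card_pos.ne'
  rw [inv_mul_eq_div, div_eq_one_iff_eq hgne]
  have eC : (Nat.card (dS h).range : ℂ) = (Fintype.card F : ℂ) - 1 := by exact_mod_cast cC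
  have eP : (Nat.card TP : ℂ) = (Fintype.card F : ℂ) + 2 ^ (m + 1) + 1 := by exact_mod_cast cP
  have eM : (Nat.card TM : ℂ) = (Fintype.card F : ℂ) - 2 ^ (m + 1) + 1 := by exact_mod_cast cM
  have eG : (Nat.card (Cfsg.Sz F m) : ℂ) =
      (Fintype.card F : ℂ) ^ 2 * ((Fintype.card F : ℂ) ^ 2 + 1) * ((Fintype.card F : ℂ) - 1) := by
    exact_mod_cast hG
  have eq' : (Fintype.card F : ℂ) = 2 * (2 ^ m * 2 ^ m) := by exact_mod_cast hq
  rw [eC, eP, eM, eG, map_pow, Complex.conj_natCast, show (2 : ℂ) ^ (m + 1) = 2 * 2 ^ m by ring, eq']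
  ring

/-- The Steinberg character as an irreducible character. -/
noncomputable def stIrr (hF : Frame h TP TM) : Cfsg.IrrCharacter (Cfsg.Sz F m) :=
  ⟨stFun h, Cfsg.Agent.Lib.StarChar.Section.isIrr_of_norm_one (stFun_gen h hm hF)
    (stFun_norm h hm hF) (d := Fintype.card F ^ 2) (pow_pos Fintype.card_pos 2)
    (by rw [stFun, if_pos rfl]; push_cast; ring)⟩

/-- The character `φ` has the degree `w`. -/
theorem degree_ge (χ : Cfsg.IrrCharacter (Cfsg.Sz F m))
    (hne : χ ≠ oneChar (Cfsg.Sz F m)) :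
    2 ^ m * (Fintype.card F - 1) ≤ Cfsg.charDegree (χ : Cfsg.Sz F m → ℂ) := by
  obtain ⟨n, ρ, hρ, hχ⟩ := exists_rep χ
  have hd := (Cfsg.Agent.Lib.H80.ClassMult.deg_spec χ).2
  rw [← hχ, Representation.char_one, Module.finrank_fin_fun] at hd
  have hdn : Cfsg.charDegree (χ : Cfsg.Sz F m → ℂ) = n := by
    have h1 : (n : ℕ) = Cfsg.charDegree ρ.character := by exact_mod_cast hd
    rw [← hχ]; exact h1.symm
  rw [hdn]
  have hnt : ∃ g, ρ g ≠ 1 := by
    by_contra hc
    push Not at hc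
    have h1 := classInner_irr_of_ne hne
    have hn := (Cfsg.Agent.Lib.H80.ClassMult.deg_spec χ).1
    rw [Cfsg.classInner] at h1
    have hv : ∀ g, (χ : Cfsg.Sz F m → ℂ) g = n := by
      intro g
      rw [← hχ]
      show LinearMap.trace ℂ _ (ρ g) = _
      rw [hc g, LinearMap.trace_one, Module.finrank_fin_fun]
    simp only [hv, oneChar_apply, map_one, mul_one, Finset.sum_const, Finset.card_univ, nsmul_eq_mul,
      mul_eq_zero, inv_eq_zero, Nat.cast_eq_zero] at h1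
    rcases h1 with h1 | h1 | h1
    · exact Nat.card_pos.ne' h1
    · exact Fintype.card_ne_zero h1
    · omega
  have := MinDegree.Suzuki.degree_bound h hm ρ hnt
  rw [Module.finrank_fin_fun] at this
  rwa [h.card]

/-- The two characters of degree `2^m (q - 1)` and the completeness of the list. -/
theorem classify (hF : Frame h TP TM) :
    ∃ W₁ W₂ : Cfsg.IrrCharacter (Cfsg.Sz F m), W₁ ≠ W₂ ∧
      (W₁ : Cfsg.Sz F m → ℂ) 1 = ((2 ^ m * (Fintype.card F - 1) : ℕ) : ℂ) ∧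
      (W₂ : Cfsg.Sz F m → ℂ) 1 = ((2 ^ m * (Fintype.card F - 1) : ℕ) : ℂ) ∧
      (∀ χ : Cfsg.IrrCharacter (Cfsg.Sz F m), χ = oneChar (Cfsg.Sz F m) ∨ χ = stIrr h hm hF ∨
        χ ∈ Set.range (famIrr h hm hF (good_C h hm hF)) ∨
        χ ∈ Set.range (famIrr h hm hF (good_P h hm hF)) ∨
        χ ∈ Set.range (famIrr h hm hF (good_M h hm hF)) ∨ χ = W₁ ∨ χ = W₂) ∧
      ∀ [Fintype (Cfsg.IrrCharacter (Cfsg.Sz F m))] (f : Cfsg.IrrCharacter (Cfsg.Sz F m) → ℂ),
        ∑ χ, f χ = f (oneChar (Cfsg.Sz F m)) + f (stIrr h hm hF) +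
          (∑ χ ∈ Finset.univ.filter (fun χ => χ ∈ Set.range (famIrr h hm hF (good_C h hm hF))), f χ) +
          (∑ χ ∈ Finset.univ.filter (fun χ => χ ∈ Set.range (famIrr h hm hF (good_P h hm hF))), f χ) +
          (∑ χ ∈ Finset.univ.filter (fun χ => χ ∈ Set.range (famIrr h hm hF (good_M h hm hF))), f χ) +
          f W₁ + f W₂ := by
  obtain ⟨hr2, hlt, -, -, h8⟩ := r_facts h hm
  obtain ⟨hr, hq, hm2, hG⟩ := int_facts h hm
  haveI := Fintype.ofFinite (Cfsg.IrrCharacter (Cfsg.Sz F m))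
  set deg := fun χ : Cfsg.IrrCharacter (Cfsg.Sz F m) => (Cfsg.charDegree (χ : Cfsg.Sz F m → ℂ) : ℤ)
  have hdeg : ∀ χ : Cfsg.IrrCharacter (Cfsg.Sz F m), (χ : Cfsg.Sz F m → ℂ) 1 = ((deg χ : ℤ) : ℂ) := fun χ => by
    rw [(Cfsg.Agent.Lib.H80.ClassMult.deg_spec χ).2]; simp [deg]
  set A := (Finset.univ : Finset (Cfsg.IrrCharacter (Cfsg.Sz F m))).filter
    (fun χ => χ ∈ Set.range (famIrr h hm hF (good_C h hm hF)))
  set B := (Finset.univ : Finset (Cfsg.IrrCharacter (Cfsg.Sz F m))).filter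
    (fun χ => χ ∈ Set.range (famIrr h hm hF (good_P h hm hF)))
  set C := (Finset.univ : Finset (Cfsg.IrrCharacter (Cfsg.Sz F m))).filter
    (fun χ => χ ∈ Set.range (famIrr h hm hF (good_M h hm hF)))
  set K : Finset (Cfsg.IrrCharacter (Cfsg.Sz F m)) :=
    {oneChar (Cfsg.Sz F m), stIrr h hm hF} ∪ A ∪ B ∪ C
  have d1 : deg (oneChar (Cfsg.Sz F m)) = 1 := by
    have h1 : (((1 : ℤ)) : ℂ) = ((deg (oneChar (Cfsg.Sz F m)) : ℤ) : ℂ) := by
      rw [← hdeg, oneChar_apply, Int.cast_one]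
    exact_mod_cast h1.symm
  have d2 : deg (stIrr h hm hF) = (Fintype.card F : ℤ) ^ 2 := by
    have h1 : ((deg (stIrr h hm hF) : ℤ) : ℂ) = (((Fintype.card F : ℤ) ^ 2 : ℤ) : ℂ) := by
      rw [← hdeg]
      show stFun h 1 = _
      rw [stFun, if_pos rfl]; push_cast; ring
    exact_mod_cast h1
  have dfam : ∀ {T : Subgroup (Cfsg.Sz F m)} {a e : ℕ} {p : Param}
      (hGd : Good h T a e p (TP := TP) (TM := TM)) (χ), χ ∈ Set.range (famIrr h hm hF hGd) → deg χ = p.d := by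
    rintro T a e p hGd _ ⟨θ, rfl⟩
    have h1 : ((deg (famIrr h hm hF hGd θ) : ℤ) : ℂ) = (p.d : ℂ) := by
      rw [← hdeg]; exact fam_one T p θ.1
    exact_mod_cast h1
  have dA : ∀ χ ∈ A, deg χ = (Fintype.card F : ℤ) ^ 2 + 1 := fun χ hχ =>
    dfam (good_C h hm hF) χ (Finset.mem_filter.1 hχ).2
  have dB : ∀ χ ∈ B, deg χ = ((Fintype.card F : ℤ) - 2 ^ (m + 1) + 1) * ((Fintype.card F : ℤ) - 1) :=
    fun χ hχ => dfam (good_P h hm hF) χ (Finset.mem_filter.1 hχ).2
  have dC : ∀ χ ∈ C, deg χ = ((Fintype.card F : ℤ) + 2 ^ (m + 1) + 1) * ((Fintype.card F : ℤ) - 1) :=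
    fun χ hχ => dfam (good_M h hm hF) χ (Finset.mem_filter.1 hχ).2
  have hcount : ∀ {T : Subgroup (Cfsg.Sz F m)} {a e : ℕ} {p : Param}
      (hGd : Good h T a e p (TP := TP) (TM := TM)),
      (((Finset.univ : Finset (Cfsg.IrrCharacter (Cfsg.Sz F m))).filter
        (fun χ => χ ∈ Set.range (famIrr h hm hF hGd))).card : ℤ) * e = (a : ℤ) - 1 := by
    intro T a e p hGd
    have h1 := card_image h hm hF hGd
    rw [← Fintype.card_subtype, ← Nat.card_eq_fintype_card]
    have ha : 1 ≤ a := hGd.tor.card ▸ Nat.card_pos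
    rw [show ((a : ℤ) - 1) = ((a - 1 : ℕ) : ℤ) by omega]
    exact_mod_cast h1
  have cA := hcount (good_C h hm hF)
  have cB := hcount (good_P h hm hF)
  have cC := hcount (good_M h hm hF)
  push_cast [Nat.cast_sub hlt.le, Nat.cast_sub (show 1 ≤ Fintype.card F by omega)] at cA cB cC
  set q : ℤ := (Fintype.card F : ℤ)
  set s : ℤ := 2 ^ m
  have hs : q = 2 * (s * s) := hq
  have hrs : (2 : ℤ) ^ (m + 1) = 2 * s := hr
  rw [hrs] at dB dC cB cC
  -- the degrees are distinct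
  have o12 : oneChar (Cfsg.Sz F m) ≠ stIrr h hm hF := fun e => by
    have := congrArg deg e
    rw [d1, d2, hs] at this
    nlinarith
  have hA1 : Disjoint ({oneChar (Cfsg.Sz F m), stIrr h hm hF} : Finset _) A :=
    Finset.disjoint_left.2 fun x hx hy => by
      have := dA x hy
      rcases Finset.mem_insert.1 hx with rfl | hx
      · rw [d1, hs] at this; nlinarith
      · rw [Finset.mem_singleton.1 hx, d2] at this; omega
  have hB1 : Disjoint ({oneChar (Cfsg.Sz F m), stIrr h hm hF} ∪ A : Finset _) B :=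
    Finset.disjoint_left.2 fun x hx hy => by
      have := dB x hy
      rcases Finset.mem_union.1 hx with hx | hx
      · rcases Finset.mem_insert.1 hx with rfl | hx
        · rw [d1, hs] at this; nlinarith
        · rw [Finset.mem_singleton.1 hx, d2, hs] at this; nlinarith
      · rw [dA x hx, hs] at this; nlinarith
  have hC1 : Disjoint ({oneChar (Cfsg.Sz F m), stIrr h hm hF} ∪ A ∪ B : Finset _) C :=
    Finset.disjoint_left.2 fun x hx hy => by
      have := dC x hy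
      rcases Finset.mem_union.1 hx with hx | hx
      · rcases Finset.mem_union.1 hx with hx | hx
        · rcases Finset.mem_insert.1 hx with rfl | hx
          · rw [d1, hs] at this; nlinarith
          · rw [Finset.mem_singleton.1 hx, d2, hs] at this; nlinarith
        · rw [dA x hx, hs] at this; nlinarith
      · rw [dB x hx, hs] at this; nlinarith
  have hK : ∑ χ ∈ K, deg χ ^ 2 = (Nat.card (Cfsg.Sz F m) : ℤ) - 2 * (s * (q - 1)) ^ 2 := by
    rw [Finset.sum_union hC1, Finset.sum_union hB1, Finset.sum_union hA1, Finset.sum_pair o12, d1, d2,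
      Finset.sum_congr rfl fun χ hχ => by rw [dA χ hχ], Finset.sum_congr rfl (s₁ := B) fun χ hχ => by rw [dB χ hχ],
      Finset.sum_congr rfl (s₁ := C) fun χ hχ => by rw [dC χ hχ]]
    simp only [Finset.sum_const, nsmul_eq_mul]
    refine mul_left_cancel₀ (show (4 : ℤ) ≠ 0 by norm_num) ?_
    rw [hG]
    rw [hs] at cA cB cC ⊢
    linear_combination (2 * ((2 * (s * s)) ^ 2 + 1) ^ 2) * cA +
      ((2 * (s * s) - 2 * s + 1) * (2 * (s * s) - 1)) ^ 2 * cB +
      ((2 * (s * s) + 2 * s + 1) * (2 * (s * s) - 1)) ^ 2 * cC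
  set R := Finset.univ \ K
  have hR : ∑ χ ∈ R, deg χ ^ 2 = 2 * (s * (q - 1)) ^ 2 := by
    have h1 : ∑ χ : Cfsg.IrrCharacter (Cfsg.Sz F m), deg χ ^ 2 = (Nat.card (Cfsg.Sz F m) : ℤ) := by
      have h2 := Cfsg.Agent.Lib.Characters.Complete.finsum_degree_sq (G := Cfsg.Sz F m)
      rw [finsum_eq_sum_of_fintype, Finset.sum_congr rfl fun χ _ => by rw [hdeg χ]] at h2
      exact_mod_cast h2
    have := Finset.sum_sdiff (f := fun χ => deg χ ^ 2) (Finset.subset_univ K)
    rw [hK, h1] at this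
    linarith
  have hge : ∀ χ ∈ R, s * (q - 1) ≤ deg χ := by
    intro χ hχ
    have hne : χ ≠ oneChar (Cfsg.Sz F m) := fun e => by
      rw [Finset.mem_sdiff, e] at hχ
      exact hχ.2 (by simp [K])
    have h1 := degree_ge h hm χ hne
    have h2 : ((2 ^ m * (Fintype.card F - 1) : ℕ) : ℤ) ≤ deg χ := Int.ofNat_le.2 h1
    push_cast [Nat.cast_sub (show 1 ≤ Fintype.card F by omega)] at h2
    exact h2
  have hw : 0 < s * (q - 1) := mul_pos (by linarith) (by nlinarith)
  have hcard : R.card = 2 := by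
    have h1 : (R.card : ℤ) * (s * (q - 1)) ^ 2 ≤ 2 * (s * (q - 1)) ^ 2 := by
      rw [← hR, ← nsmul_eq_mul, ← Finset.sum_const]
      exact Finset.sum_le_sum fun χ hχ => pow_le_pow_left₀ hw.le (hge χ hχ) 2
    have h2 : (R.card : ℤ) ≤ 2 := le_of_mul_le_mul_right h1 (by positivity)
    have h0 : R.card ≠ 0 := fun e => by
      rw [Finset.card_eq_zero.1 e, Finset.sum_empty] at hR; nlinarith
    have h1' : R.card ≠ 1 := fun e => by
      obtain ⟨x, hx⟩ := Finset.card_eq_one.1 e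
      rw [hx, Finset.sum_singleton] at hR
      have hsq : Irrational (Real.sqrt 2) := irrational_sqrt_two
      refine hsq ⟨(deg x : ℚ) / (s * (q - 1) : ℤ), ?_⟩
      have hR' : (deg x : ℝ) ^ 2 = 2 * ((s * (q - 1) : ℤ) : ℝ) ^ 2 := by exact_mod_cast hR
      have hwR : (0 : ℝ) < ((s * (q - 1) : ℤ) : ℝ) := by exact_mod_cast hw
      have hdR : (0 : ℝ) ≤ (deg x : ℝ) := by
        have := hge x (by rw [hx]; simp)
        exact_mod_cast le_trans hw.le this
      rw [Rat.cast_div, Rat.cast_intCast, Rat.cast_intCast]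
      refine ((Real.sqrt_eq_iff_eq_sq (by norm_num) (div_nonneg hdR hwR.le)).2 ?_).symm
      field_simp
      linarith
    omega
  obtain ⟨W₁, W₂, hne, hW⟩ := Finset.card_eq_two.1 hcard
  have m1 : W₁ ∈ R := by rw [hW]; simp
  have m2 : W₂ ∈ R := by rw [hW]; simp
  have g1 := hge W₁ m1
  have g2 := hge W₂ m2
  rw [hW, Finset.sum_pair hne] at hR
  have e1 : deg W₁ = s * (q - 1) := le_antisymm (by nlinarith) g1
  have e2 : deg W₂ = s * (q - 1) := le_antisymm (by nlinarith) g2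
  refine ⟨W₁, W₂, hne, ?_, ?_, fun χ => ?_, fun {inst} f => ?_⟩
  · rw [hdeg, e1]; push_cast [Nat.cast_sub (show 1 ≤ Fintype.card F by omega)]; simp [q, s]
  · rw [hdeg, e2]; push_cast [Nat.cast_sub (show 1 ≤ Fintype.card F by omega)]; simp [q, s]
  · by_cases hχ : χ ∈ K
    · simp only [K, A, B, C, Finset.mem_union, Finset.mem_insert, Finset.mem_singleton, Finset.mem_filter,
        Finset.mem_univ, true_and] at hχ
      tauto
    · have : χ ∈ R := Finset.mem_sdiff.2 ⟨Finset.mem_univ _, hχ⟩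
      rw [hW] at this
      simp only [Finset.mem_insert, Finset.mem_singleton] at this
      tauto
  · obtain rfl : inst = this := Subsingleton.elim _ _
    rw [← Finset.sum_sdiff (Finset.subset_univ K),
      show ∑ χ ∈ Finset.univ \ K, f χ = f W₁ + f W₂ by rw [← Finset.sum_pair hne, ← hW],
      Finset.sum_union hC1, Finset.sum_union hB1, Finset.sum_union hA1, Finset.sum_pair o12]
    ring

end Cfsg.Agent.Lib.SzChars.Table
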