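import Cfsg.Agent.Lib.SzChars.Values

/-!
# The structure constants of the square of a class of a Suzuki group: general bounds
-/

set_option autoImplicit false
set_option linter.unusedSectionVars false

namespace Cfsg.Agent.Lib.SzChars.Bounds

open Cfsg.Agent.Lib.LieTwisted.Suzuki Cfsg.Agent.Lib.SzElements.Basic
open Cfsg.Agent.Lib.SzTori
open Cfsg.Agent.Lib.SzChars.TISum Cfsg.Agent.Lib.SzChars.Kinds Cfsg.Agent.Lib.SzChars.Family
open Cfsg.Agent.Lib.SzChars.Table Cfsg.Agent.Lib.SzChars.Dual Cfsg.Agent.Lib.SzChars.Values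
open Cfsg.Agent.Lib.Characters.Basic
open scoped ComplexConjugate Classical

/-- If the structure constant is non-zero then the element is a product of two conjugates. -/
theorem exists_product {G : Type*} [Group G] [Fintype G] [Fintype (Cfsg.IrrCharacter G)] (x g : G)
    (hS : ∑ χ : Cfsg.IrrCharacter G,
      (χ : G → ℂ) x * (χ : G → ℂ) x * conj ((χ : G → ℂ) g) / (χ : G → ℂ) 1 ≠ 0) :
    ∃ u v : G, g = (u * x * u⁻¹) * (v * x * v⁻¹) := by
  by_contra hno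
  refine hS ?_
  have hz : ∑ a : G, ∑ χ : Cfsg.IrrCharacter G,
      (χ : G → ℂ) (x * (a * x * a⁻¹)) * conj ((χ : G → ℂ) g) = 0 := by
    refine Finset.sum_eq_zero fun a _ => ?_
    rw [Cfsg.Agent.Lib.Characters.Complete.sum_irr_mul_conj, if_neg]
    intro hc
    obtain ⟨k, hk⟩ := isConj_iff.1 hc
    exact hno ⟨k, k * a, by rw [← hk]; group⟩
  rw [Finset.sum_comm] at hz
  simp only [← Finset.sum_mul, Cfsg.Agent.Lib.H80.ClassMult.sum_apply_mul_conj] at hz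
  refine (mul_eq_zero.1 (?_ : (Nat.card G : ℂ) * _ = 0)).resolve_left (Nat.cast_ne_zero.2 Nat.card_pos.ne')
  rw [← hz, Finset.mul_sum]
  exact Finset.sum_congr rfl fun χ _ => by ring

variable {F : Type*} [Field F] [Fintype F] {m : ℕ} [Fintype (Cfsg.Sz F m)]
  [Fintype (Cfsg.IrrCharacter (Cfsg.Sz F m))]
  (h : IsSzField F m) (hm : 1 ≤ m) {TP TM : Subgroup (Cfsg.Sz F m)} (hF : Frame h TP TM)

/-- The contribution of a character to the structure constant. -/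
noncomputable def term (x g : Cfsg.Sz F m) (χ : Cfsg.IrrCharacter (Cfsg.Sz F m)) : ℂ :=
  (χ : Cfsg.Sz F m → ℂ) x * (χ : Cfsg.Sz F m → ℂ) x * conj ((χ : Cfsg.Sz F m → ℂ) g) /
    (χ : Cfsg.Sz F m → ℂ) 1

include h hm hF

variable {T : Subgroup (Cfsg.Sz F m)} {a e : ℕ} {p : Param}

theorem sum_normSq (hG : Good h T a e p (TP := TP) (TM := TM)) {x : Cfsg.Sz F m} (hx : x ∈ conjSet T) :
    ∑ χ ∈ Finset.univ.filter (fun χ => χ ∈ Set.range (famIrr h hm hF hG)),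
      Complex.normSq ((χ : Cfsg.Sz F m → ℂ) x) = (a : ℝ) - e := by
  have h1 := img_mul h hm hF hG hx (inv_mem_conjSet hx)
    (f := fun χ => ((Complex.normSq ((χ : Cfsg.Sz F m → ℂ) x) : ℝ) : ℂ)) (fun θ => by
      show ((Complex.normSq _ : ℝ) : ℂ) = _
      rw [← Complex.mul_conj, ← conj_indT, famIrr_apply, fam_on h hm hF hG θ.1 hx, map_mul, map_intCast]
      have := congrArg (Int.cast (R := ℂ)) hG.sign
      push_cast at this
      linear_combination (indT θ.1 x * conj (indT θ.1 x)) * this)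
  rw [inv_inv, if_pos (IsConj.refl x), imgSum, ← Complex.ofReal_sum] at h1
  exact_mod_cast h1

theorem normSq_indT_le (hG : Good h T a e p (TP := TP) (TM := TM))
    (θ : {θ : ↥T →* ℂˣ // θ ≠ 1}) {g : Cfsg.Sz F m} (hg : g ∈ conjSet T) :
    Complex.normSq ((famIrr h hm hF hG θ : Cfsg.Sz F m → ℂ) g) ≤ (a : ℝ) - e := by
  rw [← sum_normSq h hm hF hG hg]
  exact Finset.single_le_sum (f := fun χ : Cfsg.IrrCharacter (Cfsg.Sz F m) =>
      Complex.normSq ((χ : Cfsg.Sz F m → ℂ) g)) (fun χ _ => Complex.normSq_nonneg _)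
    (Finset.mem_filter.2 ⟨Finset.mem_univ (famIrr h hm hF hG θ), θ, rfl⟩)

theorem norm_fam_torus (hG : Good h T a e p (TP := TP) (TM := TM))
    (θ : {θ : ↥T →* ℂˣ // θ ≠ 1}) {g : Cfsg.Sz F m} (hg : g ∈ conjSet T) :
    ‖(famIrr h hm hF hG θ : Cfsg.Sz F m → ℂ) g‖ ≤ e := by
  rw [famIrr_apply, fam_on h hm hF hG θ.1 hg, norm_mul]
  refine le_trans (le_of_eq ?_) (norm_indT_le hG.tor.isTorus hG.tor θ.1 hg)
  have : ‖(p.ε : ℂ)‖ * ‖(p.ε : ℂ)‖ = 1 := by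
    rw [← norm_mul, ← Int.cast_mul, hG.sign]; simp
  rw [show ‖(p.ε : ℂ)‖ = 1 by nlinarith [norm_nonneg (p.ε : ℂ)], one_mul]

/-- The contribution of a family, when `x` lies in its torus. -/
theorem bound_fam (hG : Good h T a e p (TP := TP) (TM := TM)) {x g : Cfsg.Sz F m} (hx : x ∈ conjSet T)
    {B : ℝ} (hB : ∀ θ, ‖(famIrr h hm hF hG θ : Cfsg.Sz F m → ℂ) g‖ ≤ B) :
    ‖imgSum h hm hF hG (term x g)‖ ≤ B * ((a : ℝ) - e) / (p.d : ℝ) := by
  rw [imgSum, ← sum_normSq h hm hF hG hx, Finset.mul_sum, Finset.sum_div]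
  refine (norm_sum_le _ _).trans (Finset.sum_le_sum fun χ hχ => ?_)
  obtain ⟨θ, rfl⟩ := (Finset.mem_filter.1 hχ).2
  have hd : (0 : ℝ) < p.d := Int.cast_pos.2 hG.pos
  rw [term, norm_div, norm_mul, norm_mul, RCLike.norm_conj, ← sq, Complex.sq_norm,
    show ‖(famIrr h hm hF hG θ : Cfsg.Sz F m → ℂ) 1‖ = (p.d : ℝ) by
      rw [famIrr_apply, fam_one, ← Complex.ofReal_intCast, Complex.norm_real, Real.norm_of_nonneg hd.le],
    mul_comm B]
  exact div_le_div_of_nonneg_right (mul_le_mul_of_nonneg_left (hB θ) (Complex.normSq_nonneg _)) hd.le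

/-- The contribution of a family, when `x` lies in another torus. -/
theorem zero_fam (hG : Good h T a e p (TP := TP) (TM := TM)) {x g : Cfsg.Sz F m}
    {S : Subgroup (Cfsg.Sz F m)} {b f : ℕ} (hS : Tor S b f) (hb : Odd b) (hne : b ≠ a)
    (hx : x ∈ conjSet S) : imgSum h hm hF hG (term x g) = 0 :=
  Finset.sum_eq_zero fun χ hχ => by
    obtain ⟨θ, rfl⟩ := (Finset.mem_filter.1 hχ).2
    rw [term, famIrr_apply, fam_off h hm hF hG θ.1 hS hb hne hx]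
    simp

theorem norm_fam_unip (hG : Good h T a e p (TP := TP) (TM := TM))
    (θ : {θ : ↥T →* ℂˣ // θ ≠ 1}) {g : Cfsg.Sz F m} (hg : g ∈ conjSet (unip h)) :
    ‖(famIrr h hm hF hG θ : Cfsg.Sz F m → ℂ) g‖ = if g ^ 2 = 1 then |(p.u₂ : ℝ)| else |(p.u₄ : ℝ)| := by
  rw [famIrr_apply, fam_two h hm T p θ.1 hg]
  split_ifs <;> rw [← Complex.ofReal_intCast, Complex.norm_real, Real.norm_eq_abs]

/-- A value of a family at any element other than the identity. -/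
theorem norm_fam_le (hG : Good h T a e p (TP := TP) (TM := TM))
    (θ : {θ : ↥T →* ℂˣ // θ ≠ 1}) {g : Cfsg.Sz F m} (hg : g ≠ 1) {B : ℝ}
    (h2 : |(p.u₂ : ℝ)| ≤ B) (h4 : |(p.u₄ : ℝ)| ≤ B) (he : (e : ℝ) ≤ B) :
    ‖(famIrr h hm hF hG θ : Cfsg.Sz F m → ℂ) g‖ ≤ B := by
  by_cases h4g : g ^ 4 = 1
  · rw [norm_fam_unip h hm hF hG θ (mem_conjSet_unip h hm hF hg h4g)]
    split_ifs <;> assumption
  · by_cases hT : g ∈ conjSet T
    · exact (norm_fam_torus h hm hF hG θ hT).trans he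
    · rw [famIrr_apply, fam_tor h hm T p θ.1 h4g, indT_of_not_mem θ.1 hT hg, mul_zero, norm_zero]
      exact le_trans (Nat.cast_nonneg e) he

variable {W₁ W₂ : Cfsg.IrrCharacter (Cfsg.Sz F m)} (hW : Completion h hm hF W₁ W₂)
include hW

theorem split (x g : Cfsg.Sz F m) :
    ∑ χ, term x g χ = 1 + term x g (stIrr h hm hF) + imgSum h hm hF (good_C h hm hF) (term x g) +
      imgSum h hm hF (good_P h hm hF) (term x g) + imgSum h hm hF (good_M h hm hF) (term x g) +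
      (term x g W₁ + term x g W₂) := by
  rw [hW.sum, show term x g (oneChar (Cfsg.Sz F m)) = 1 by simp [term, oneChar_apply]]
  ring

theorem term_W (x g : Cfsg.Sz F m) {v : ℂ}
    (h1 : (W₁ : Cfsg.Sz F m → ℂ) x * (W₁ : Cfsg.Sz F m → ℂ) x = v)
    (h2 : (W₂ : Cfsg.Sz F m → ℂ) x * (W₂ : Cfsg.Sz F m → ℂ) x = v) :
    term x g W₁ + term x g W₂ =
      v * conj ((W₁ : Cfsg.Sz F m → ℂ) g + (W₂ : Cfsg.Sz F m → ℂ) g) /
        ((2 : ℂ) ^ m * ((Fintype.card F : ℂ) - 1)) := by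
  rw [term, term, h1, h2, hW.deg₁, hW.deg₂, map_add]
  ring

/-- The sum of the two values, in all cases. -/
theorem W_sum {g : Cfsg.Sz F m} (hg : g ≠ 1) :
    (g ∈ conjSet (dS h).range ∧ conj ((W₁ : Cfsg.Sz F m → ℂ) g + (W₂ : Cfsg.Sz F m → ℂ) g) = 0) ∨
    (g ∈ conjSet TP ∧ conj ((W₁ : Cfsg.Sz F m → ℂ) g + (W₂ : Cfsg.Sz F m → ℂ) g) = 2) ∨
    (g ∈ conjSet TM ∧ conj ((W₁ : Cfsg.Sz F m → ℂ) g + (W₂ : Cfsg.Sz F m → ℂ) g) = -2) ∨
    (g ∈ conjSet (unip h) ∧ g ^ 2 = 1 ∧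
      conj ((W₁ : Cfsg.Sz F m → ℂ) g + (W₂ : Cfsg.Sz F m → ℂ) g) = -(2 * 2 ^ m)) ∨
    (g ∈ conjSet (unip h) ∧ g ^ 2 ≠ 1 ∧
      conj ((W₁ : Cfsg.Sz F m → ℂ) g + (W₂ : Cfsg.Sz F m → ℂ) g) = 0) := by
  rcases hF.cover g hg with z | z | z | z
  · by_cases h2 : g ^ 2 = 1
    · obtain ⟨a1, a2⟩ := W_invol h hm hF hW z h2
      refine Or.inr (Or.inr (Or.inr (Or.inl ⟨z, h2, ?_⟩)))
      rw [a1, a2, map_add, map_neg, map_pow, map_ofNat]; ring
    · obtain ⟨a1, -⟩ := W_four h hm hF hW z h2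
      refine Or.inr (Or.inr (Or.inr (Or.inr ⟨z, h2, ?_⟩)))
      rw [a1, add_neg_cancel, map_zero]
  · obtain ⟨a1, a2⟩ := W_split h hm hF hW z
    exact Or.inl ⟨z, by rw [a1, a2, add_zero, map_zero]⟩
  · obtain ⟨a1, a2⟩ := W_plus h hm hF hW z
    exact Or.inr (Or.inl ⟨z, by rw [a1, a2, map_add, map_one]; norm_num⟩)
  · obtain ⟨a1, a2⟩ := W_minus h hm hF hW z
    exact Or.inr (Or.inr (Or.inl ⟨z, by rw [a1, a2, map_add, map_neg, map_one]; norm_num⟩))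

theorem norm_W_sum {g : Cfsg.Sz F m} (hg : g ≠ 1) :
    ‖conj ((W₁ : Cfsg.Sz F m → ℂ) g + (W₂ : Cfsg.Sz F m → ℂ) g)‖ ≤ 2 * 2 ^ m := by
  have hs : (1 : ℝ) ≤ 2 ^ m := one_le_pow₀ (by norm_num)
  rcases W_sum h hm hF hW hg with ⟨-, z⟩ | ⟨-, z⟩ | ⟨-, z⟩ | ⟨-, -, z⟩ | ⟨-, -, z⟩ <;> rw [z] <;>
    norm_num <;> linarith

omit hW in
theorem norm_st_term {x : Cfsg.Sz F m} {S : Subgroup (Cfsg.Sz F m)}
    (hS : S = (dS h).range ∨ S = TP ∨ S = TM) (hx : x ∈ conjSet S) {g : Cfsg.Sz F m} (hg : g ≠ 1) :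
    ‖term x g (stIrr h hm hF)‖ ≤ 1 / (Fintype.card F : ℝ) ^ 2 := by
  have h1 : (stIrr h hm hF : Cfsg.Sz F m → ℂ) x * (stIrr h hm hF : Cfsg.Sz F m → ℂ) x = 1 := by
    rw [st_tor h hm hF hS hx]; split_ifs <;> norm_num
  rw [term, h1, one_mul, norm_div, RCLike.norm_conj,
    show (stIrr h hm hF : Cfsg.Sz F m → ℂ) 1 = (Fintype.card F : ℂ) ^ 2 from by
      show stFun h 1 = _; rw [stFun, if_pos rfl],
    norm_pow, Complex.norm_natCast]
  refine div_le_div_of_nonneg_right ?_ (by positivity)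
  rcases hF.cover g hg with z | z | z | z
  · rw [st_unip h hm hF z, norm_zero]; exact zero_le_one
  all_goals rw [st_tor h hm hF (by tauto) z]; split_ifs <;> norm_num

end Cfsg.Agent.Lib.SzChars.Bounds
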