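import Cfsg.Agent.Lib.SzChars.Bounds

/-!
# The structure constants of the square of a class of a Suzuki group do not vanish
-/

set_option autoImplicit false
set_option linter.unusedSectionVars false

namespace Cfsg.Agent.Lib.SzChars.Cases

open Cfsg.Agent.Lib.LieTwisted.Suzuki Cfsg.Agent.Lib.SzElements.Basic
open Cfsg.Agent.Lib.SzTori
open Cfsg.Agent.Lib.SzChars.TISum Cfsg.Agent.Lib.SzChars.Kinds Cfsg.Agent.Lib.SzChars.Family
open Cfsg.Agent.Lib.SzChars.Table Cfsg.Agent.Lib.SzChars.Dual Cfsg.Agent.Lib.SzChars.Values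
open Cfsg.Agent.Lib.SzChars.Bounds
open Cfsg.Agent.Lib.Characters.Basic
open scoped ComplexConjugate Classical

theorem ne_zero_of_norm {z : ℂ} (hz : ‖z‖ < 1) : 1 + z ≠ 0 := fun e => by
  rw [show z = -1 by linear_combination e, norm_neg, norm_one] at hz
  exact lt_irrefl _ hz

theorem ne_zero_of_pos {z : ℂ} {r : ℝ} (hz : z = (r : ℂ)) (hr : 0 < r) : z ≠ 0 := by
  rw [hz]; exact Complex.ofReal_ne_zero.2 hr.ne'

variable {F : Type*} [Field F] [Fintype F] {m : ℕ} [Fintype (Cfsg.Sz F m)]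
  [Fintype (Cfsg.IrrCharacter (Cfsg.Sz F m))]
  (h : IsSzField F m) (hm : 1 ≤ m) {TP TM : Subgroup (Cfsg.Sz F m)} (hF : Frame h TP TM)

include h hm in
theorem s_facts :
    (2 : ℝ) ≤ 2 ^ m ∧ (Fintype.card F : ℝ) = 2 * (2 ^ m * 2 ^ m) ∧
      ((Fintype.card F - 1 : ℕ) : ℝ) = (Fintype.card F : ℝ) - 1 ∧
      ((Fintype.card F + 2 ^ (m + 1) + 1 : ℕ) : ℝ) = (Fintype.card F : ℝ) + 2 * 2 ^ m + 1 ∧
      ((Fintype.card F - 2 ^ (m + 1) + 1 : ℕ) : ℝ) = (Fintype.card F : ℝ) - 2 * 2 ^ m + 1 := by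
  obtain ⟨hr2, hlt, -, -, h8⟩ := r_facts h hm
  refine ⟨?_, ?_, ?_, ?_, ?_⟩
  · calc (2 : ℝ) = 2 ^ 1 := by norm_num
      _ ≤ 2 ^ m := pow_le_pow_right₀ (by norm_num) hm
  · rw [h.card]; push_cast; ring
  · push_cast [Nat.cast_sub (show 1 ≤ Fintype.card F by omega)]; ring
  · push_cast; ring
  · push_cast [Nat.cast_sub hlt.le]; ring

include h hm hF

variable {W₁ W₂ : Cfsg.IrrCharacter (Cfsg.Sz F m)} (hW : Completion h hm hF W₁ W₂)
include hW

/-- `x` in the split torus. -/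
theorem case_split {x g : Cfsg.Sz F m} (hx : x ∈ conjSet (dS h).range) (hg : g ≠ 1) :
    ∑ χ, term x g χ ≠ 0 := by
  obtain ⟨hs, hq, eC, eP, eM⟩ := s_facts h hm
  obtain ⟨n0, n1, -⟩ := torus_ne h hm
  obtain ⟨o0, o1, o2⟩ := odd_facts h hm
  obtain ⟨a1, a2⟩ := W_split h hm hF hW hx
  rw [Bounds.split h hm hF hW, term_W h hm hF hW x g (v := 0) (by rw [a1, mul_zero]) (by rw [a2, mul_zero]),
    zero_fam h hm hF (good_P h hm hF) (split_tor h hm) o0 n0 hx,
    zero_fam h hm hF (good_M h hm hF) (split_tor h hm) o0 n1 hx, zero_mul, zero_div, add_zero, add_zero, add_zero,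
    add_assoc]
  refine ne_zero_of_norm (lt_of_le_of_lt ((norm_add_le _ _).trans (add_le_add
    (norm_st_term h hm hF (Or.inl rfl) hx hg) (bound_fam h hm hF (good_C h hm hF) (g := g) hx (B := 2)
      fun θ => norm_fam_le h hm hF (good_C h hm hF) θ hg (by simp [pC]) (by simp [pC]) (by norm_num)))) ?_)
  simp only [eC, pC]
  push_cast
  rw [hq]
  generalize (2 : ℝ) ^ m = s at hs
  have h8 : 8 ≤ 2 * (s * s) := by nlinarith
  generalize 2 * (s * s) = q at h8
  rw [div_add_div _ _ (by positivity) (by positivity), div_lt_one (by positivity)]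
  nlinarith [mul_nonneg (sub_nonneg.2 h8) (sq_nonneg q), sq_nonneg q, mul_le_mul h8 h8 (by norm_num) (by linarith)]

/-- `x` in the torus of order `q - r + 1`. -/
theorem case_minus {x g : Cfsg.Sz F m} (hx : x ∈ conjSet TM) (hg : g ≠ 1) :
    ∑ χ, term x g χ ≠ 0 := by
  obtain ⟨hs, hq, eC, eP, eM⟩ := s_facts h hm
  obtain ⟨n0, n1, n2⟩ := torus_ne h hm
  obtain ⟨o0, o1, o2⟩ := odd_facts h hm
  obtain ⟨a1, a2⟩ := W_minus h hm hF hW hx
  rw [Bounds.split h hm hF hW, term_W h hm hF hW x g (v := 1) (by rw [a1]; norm_num) (by rw [a2]; norm_num),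
    zero_fam h hm hF (good_C h hm hF) hF.minus o2 n1.symm hx,
    zero_fam h hm hF (good_P h hm hF) hF.minus o2 n2.symm hx, one_mul, add_zero, add_zero, add_assoc, add_assoc]
  refine ne_zero_of_norm (lt_of_le_of_lt ((norm_add_le _ _).trans (add_le_add
    (norm_st_term h hm hF (Or.inr (Or.inr rfl)) hx hg) ((norm_add_le _ _).trans (add_le_add
      (bound_fam h hm hF (good_M h hm hF) (g := g) hx (B := 2 * 2 ^ m + 1) fun θ =>
        norm_fam_le h hm hF (good_M h hm hF) θ hg ?_ ?_ ?_) le_rfl)))) ?_)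
  · simp only [pM]; push_cast; rw [pow_succ, abs_le]; constructor <;> linarith
  · simp only [pM]; push_cast; rw [abs_neg, abs_one]; linarith
  · push_cast; linarith
  rw [norm_div, norm_mul, norm_pow, RCLike.norm_ofNat,
    show ‖(Fintype.card F : ℂ) - 1‖ = (Fintype.card F : ℝ) - 1 by
      rw [show (Fintype.card F : ℂ) - 1 = (((Fintype.card F : ℝ) - 1 : ℝ) : ℂ) by push_cast; ring,
        Complex.norm_real, Real.norm_of_nonneg (by rw [hq]; nlinarith)]]
  refine lt_of_le_of_lt (add_le_add le_rfl (add_le_add le_rfl (div_le_div_of_nonneg_right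
    (norm_W_sum h hm hF hW hg) (by rw [hq]; exact mul_nonneg (by positivity) (by nlinarith))))) ?_
  simp only [eM, pM]
  push_cast
  rw [hq, pow_succ (2 : ℝ)]
  generalize (2 : ℝ) ^ m = s at hs
  have h4 : 4 ≤ s * s := by nlinarith
  have b1 : 1 / (2 * (s * s)) ^ 2 ≤ 1 / 64 := by
    apply one_div_le_one_div_of_le (by norm_num); nlinarith
  have b2 : (2 * s + 1) * (2 * (s * s) - 2 * s + 1 - 4) /
      ((2 * (s * s) + s * 2 + 1) * (2 * (s * s) - 1)) ≤ 1 / 2 := by
    rw [div_le_iff₀ (by nlinarith)]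
    nlinarith [mul_le_mul_of_nonneg_left hs (show 0 ≤ s * s * s by positivity), sq_nonneg s]
  have b3 : 2 * s / (s * (2 * (s * s) - 1)) ≤ 2 / 7 := by
    rw [show 2 * s / (s * (2 * (s * s) - 1)) = 2 / (2 * (s * s) - 1) by
      rw [mul_comm 2 s, mul_div_mul_left _ _ (by linarith : s ≠ 0)]]
    exact div_le_div_of_nonneg_left (by norm_num) (by norm_num) (by linarith)
  linarith

/-- `x` in the torus of order `q + r + 1`. -/
theorem case_plus {x g : Cfsg.Sz F m} (hx : x ∈ conjSet TP) (hg : g ≠ 1) :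
    ∑ χ, term x g χ ≠ 0 := by
  obtain ⟨hs, hq, eC, eP, eM⟩ := s_facts h hm
  obtain ⟨n0, n1, n2⟩ := torus_ne h hm
  obtain ⟨o0, o1, o2⟩ := odd_facts h hm
  obtain ⟨a1, a2⟩ := W_plus h hm hF hW hx
  rw [Bounds.split h hm hF hW, term_W h hm hF hW x g (v := 1) (by rw [a1]; norm_num) (by rw [a2]; norm_num),
    zero_fam h hm hF (good_C h hm hF) hF.plus o1 n0.symm hx,
    zero_fam h hm hF (good_M h hm hF) hF.plus o1 n2 hx, one_mul, add_zero, add_zero]
  have hgood := good_P h hm hF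
  have hdval : ((pP F m).d : ℝ) = (2 * (2 ^ m * 2 ^ m) - 2 * 2 ^ m + 1) * (2 * (2 ^ m * 2 ^ m) - 1) := by
    simp only [pP]; push_cast; rw [hq, pow_succ]; ring
  by_cases hu : g ∈ conjSet (unip h)
  · have hst : term x g (stIrr h hm hF) = 0 := by
      rw [term, st_unip h hm hF hu, map_zero, mul_zero, zero_div]
    by_cases h2 : g ^ 2 = 1
    · -- an involution: exact computation
      obtain ⟨b1, b2⟩ := W_invol h hm hF hW hu h2
      have hsq := img_mul h hm hF hgood hx hx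
        (f := fun χ => (χ : Cfsg.Sz F m → ℂ) x * (χ : Cfsg.Sz F m → ℂ) x) (fun θ => by
          show _ * _ = _
          rw [famIrr_apply, fam_on h hm hF hgood θ.1 hx]
          have := congrArg (Int.cast (R := ℂ)) hgood.sign
          push_cast at this
          linear_combination (indT θ.1 x * indT θ.1 x) * this)
      have hB : imgSum h hm hF hgood (term x g) = ((pP F m).u₂ : ℂ) / ((pP F m).d : ℂ) *
          imgSum h hm hF hgood (fun χ => (χ : Cfsg.Sz F m → ℂ) x * (χ : Cfsg.Sz F m → ℂ) x) := by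
        rw [imgSum, imgSum, Finset.mul_sum]
        refine Finset.sum_congr rfl fun χ hχ => ?_
        obtain ⟨θ, rfl⟩ := (Finset.mem_filter.1 hχ).2
        rw [term, famIrr_apply (g := g), fam_two h hm _ _ θ.1 hu, if_pos h2, famIrr_apply (g := 1), fam_one,
          map_intCast]
        ring
      rw [hst, hB, hsq, b1, b2, map_add, map_neg, map_pow, map_ofNat, add_zero]
      set v : ℝ := (if IsConj x x⁻¹ then ((Fintype.card F + 2 ^ (m + 1) + 1 : ℕ) : ℝ) else 0) - 4 with hv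
      refine ne_zero_of_pos (r := 1 + ((pP F m).u₂ : ℝ) / ((pP F m).d : ℝ) * v +
        (-(2 ^ m) + -(2 ^ m)) / (2 ^ m * ((Fintype.card F : ℝ) - 1))) ?_ ?_
      · rw [hv]; split_ifs <;> push_cast <;> ring
      · have hv4 : -4 ≤ v := by
          rw [hv]; split_ifs
          · linarith [Nat.cast_nonneg (α := ℝ) (Fintype.card F + 2 ^ (m + 1) + 1)]
          · linarith
        rw [hdval]
        simp only [pP]
        push_cast
        rw [hq, pow_succ (2 : ℝ)]
        generalize (2 : ℝ) ^ m = s at hs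
        have hd : 0 < (2 * (s * s) - 2 * s + 1) * (2 * (s * s) - 1) := mul_pos (by nlinarith) (by nlinarith)
        have c1 : (s * 2 - 1) / ((2 * (s * s) - 2 * s + 1) * (2 * (s * s) - 1)) ≤ 1 / 10 := by
          rw [div_le_iff₀ hd]
          nlinarith [mul_le_mul_of_nonneg_left hs (show 0 ≤ s * s * s by positivity), sq_nonneg s,
            mul_le_mul_of_nonneg_left hs (show 0 ≤ s * s by positivity)]
        have c0 : 0 ≤ (s * 2 - 1) / ((2 * (s * s) - 2 * s + 1) * (2 * (s * s) - 1)) :=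
          div_nonneg (by linarith) hd.le
        have c2 : (-s + -s) / (s * (2 * (s * s) - 1)) = -(2 / (2 * (s * s) - 1)) := by
          have : s ≠ 0 := by linarith
          have : 2 * (s * s) - 1 ≠ 0 := by nlinarith
          field_simp
          ring
        have c3 : 2 / (2 * (s * s) - 1) ≤ 2 / 7 :=
          div_le_div_of_nonneg_left (by norm_num) (by norm_num) (by nlinarith)
        nlinarith [mul_le_mul_of_nonneg_left hv4 c0]
    · obtain ⟨b1, -⟩ := W_four h hm hF hW hu h2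
      rw [hst, b1, add_neg_cancel, map_zero, zero_div, add_zero, add_zero]
      refine ne_zero_of_norm (lt_of_le_of_lt (bound_fam h hm hF hgood (g := g) hx (B := 1) fun θ => by
        rw [norm_fam_unip h hm hF hgood θ hu, if_neg h2]; simp [pP]) ?_)
      rw [hdval, eP, hq]
      generalize (2 : ℝ) ^ m = s at hs
      push_cast
      rw [div_lt_one (mul_pos (by nlinarith) (by nlinarith))]
      nlinarith [mul_le_mul_of_nonneg_left hs (show 0 ≤ s * s * s by positivity), sq_nonneg s,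
        mul_le_mul_of_nonneg_left hs (show 0 ≤ s * s by positivity)]
  · -- a semisimple element
    have hA : (0 : ℝ) < ((Fintype.card F + 2 ^ (m + 1) + 1 : ℕ) : ℝ) - (4 : ℕ) := by
      rw [eP, hq]; push_cast; nlinarith
    have hd : (0 : ℝ) < (pP F m).d := Int.cast_pos.2 hgood.pos
    set A : ℝ := ((Fintype.card F + 2 ^ (m + 1) + 1 : ℕ) : ℝ) - (4 : ℕ)
    have hB : ∀ θ, ‖(famIrr h hm hF hgood θ : Cfsg.Sz F m → ℂ) g‖ ≤ 4 / 5 * ((pP F m).d : ℝ) / A := by
      intro θ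
      refine le_trans ?_ (show Real.sqrt A ≤ _ from ?_)
      · rw [← Real.sqrt_sq (norm_nonneg _), Complex.sq_norm]
        refine Real.sqrt_le_sqrt ?_
        by_cases hT : g ∈ conjSet TP
        · exact normSq_indT_le h hm hF hgood θ hT
        · have h4 : g ^ 4 ≠ 1 := fun z => hu (mem_conjSet_unip h hm hF hg z)
          rw [famIrr_apply, fam_tor h hm _ _ θ.1 h4, indT_of_not_mem θ.1 hT hg, mul_zero, map_zero]
          exact hA.le
      · rw [Real.sqrt_le_left (div_nonneg (by positivity) hA.le), div_pow, le_div_iff₀ (pow_pos hA 2)]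
        have hAv : A = 2 * (2 ^ m * 2 ^ m) + 2 * 2 ^ m - 3 := by
          simp only [A]; rw [eP, hq]; push_cast; ring
        rw [hAv, hdval]
        generalize (2 : ℝ) ^ m = s at hs
        obtain ⟨t, ht, rfl⟩ : ∃ t : ℝ, 0 ≤ t ∧ s = t + 2 := ⟨s - 2, by linarith, by ring⟩
        ring_nf
        nlinarith [pow_nonneg ht 2, pow_nonneg ht 3, pow_nonneg ht 4, pow_nonneg ht 5, pow_nonneg ht 6,
          pow_nonneg ht 7, pow_nonneg ht 8]
    have h2 : ‖conj ((W₁ : Cfsg.Sz F m → ℂ) g + (W₂ : Cfsg.Sz F m → ℂ) g)‖ ≤ 2 := by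
      rcases W_sum h hm hF hW hg with ⟨-, z⟩ | ⟨-, z⟩ | ⟨-, z⟩ | ⟨z', -, -⟩ | ⟨z', -, -⟩
      iterate 3 (rw [z]; norm_num)
      all_goals exact absurd z' hu
    rw [add_assoc, add_assoc]
    refine ne_zero_of_norm (lt_of_le_of_lt ((norm_add_le _ _).trans (add_le_add
      (norm_st_term h hm hF (Or.inr (Or.inl rfl)) hx hg) ((norm_add_le _ _).trans (add_le_add
        (bound_fam h hm hF hgood (g := g) hx hB) le_rfl)))) ?_)
    rw [show 4 / 5 * ((pP F m).d : ℝ) / A * A / ((pP F m).d : ℝ) = 4 / 5 by field_simp,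
      norm_div, norm_mul, norm_pow, RCLike.norm_ofNat,
      show ‖(Fintype.card F : ℂ) - 1‖ = (Fintype.card F : ℝ) - 1 by
        rw [show (Fintype.card F : ℂ) - 1 = (((Fintype.card F : ℝ) - 1 : ℝ) : ℂ) by push_cast; ring,
          Complex.norm_real, Real.norm_of_nonneg (by rw [hq]; nlinarith)]]
    refine lt_of_le_of_lt (add_le_add le_rfl (add_le_add le_rfl (div_le_div_of_nonneg_right h2
      (by rw [hq]; exact mul_nonneg (by positivity) (by nlinarith))))) ?_
    rw [hq]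
    generalize (2 : ℝ) ^ m = s at hs
    have h4 : 4 ≤ s * s := by nlinarith
    have c1 : 1 / (2 * (s * s)) ^ 2 ≤ 1 / 64 := by
      apply one_div_le_one_div_of_le (by norm_num); nlinarith
    have c2 : 2 / (s * (2 * (s * s) - 1)) ≤ 2 / 14 :=
      div_le_div_of_nonneg_left (by norm_num) (by norm_num) (by nlinarith)
    linarith

/-- The contribution of a family when `x` has order four. -/
theorem four_fam {T : Subgroup (Cfsg.Sz F m)} {a e : ℕ} {p : Param}
    (hG : Good h T a e p (TP := TP) (TM := TM)) (hu4 : (p.u₄ : ℂ) * p.u₄ = 1) {x g : Cfsg.Sz F m}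
    (hx : x ∈ conjSet (unip h)) (hx2 : x ^ 2 ≠ 1) :
    imgSum h hm hF hG (term x g) =
      imgSum h hm hF hG (fun χ => conj ((χ : Cfsg.Sz F m → ℂ) g)) / (p.d : ℂ) := by
  rw [imgSum, imgSum, Finset.sum_div]
  refine Finset.sum_congr rfl fun χ hχ => ?_
  obtain ⟨θ, rfl⟩ := (Finset.mem_filter.1 hχ).2
  rw [term, famIrr_apply (g := x), fam_two h hm _ _ θ.1 hx, if_neg hx2, hu4, one_mul,
    famIrr_apply (g := 1), fam_one]

/-- `x` of order four. -/
theorem case_four {x g : Cfsg.Sz F m} (hx : x ∈ conjSet (unip h)) (hx2 : x ^ 2 ≠ 1) (hg : g ≠ 1) :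
    ∑ χ, term x g χ ≠ 0 := by
  obtain ⟨hs, hq, eC, eP, eM⟩ := s_facts h hm
  obtain ⟨n0, n1, n2⟩ := torus_ne h hm
  obtain ⟨o0, o1, o2⟩ := odd_facts h hm
  obtain ⟨a1, a2⟩ := W_four h hm hF hW hx hx2
  rw [Bounds.split h hm hF hW, show term x g (stIrr h hm hF) = 0 by
      rw [term, st_unip h hm hF hx, zero_mul, zero_mul, zero_div],
    term_W h hm hF hW x g (v := -((Fintype.card F : ℂ) / 2)) a2 (by rw [a1, neg_mul_neg, a2]),
    four_fam h hm hF hW (good_C h hm hF) (by simp [pC]) hx hx2,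
    four_fam h hm hF hW (good_P h hm hF) (by simp [pP]) hx hx2,
    four_fam h hm hF hW (good_M h hm hF) (by simp [pM]) hx hx2, add_zero]
  have dC : ((pC F).d : ℝ) = (2 * (2 ^ m * 2 ^ m)) ^ 2 + 1 := by
    simp only [pC]; push_cast; rw [hq]
  have dP : ((pP F m).d : ℝ) = (2 * (2 ^ m * 2 ^ m) - 2 * 2 ^ m + 1) * (2 * (2 ^ m * 2 ^ m) - 1) := by
    simp only [pP]; push_cast; rw [hq, pow_succ]; ring
  have dM : ((pM F m).d : ℝ) = (2 * (2 ^ m * 2 ^ m) + 2 * 2 ^ m + 1) * (2 * (2 ^ m * 2 ^ m) - 1) := by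
    simp only [pM]; push_cast; rw [hq, pow_succ]; ring
  obtain ⟨hr', hq', c0, c1, c2⟩ := real_facts h hm hF
  have hconj : ∀ {T : Subgroup (Cfsg.Sz F m)} {a e : ℕ} {p : Param}
      (hG : Good h T a e p (TP := TP) (TM := TM)) (θ : {θ : ↥T →* ℂˣ // θ ≠ 1}), g ∈ conjSet (unip h) →
      conj ((famIrr h hm hF hG θ : Cfsg.Sz F m → ℂ) g) = if g ^ 2 = 1 then (p.u₂ : ℂ) else p.u₄ := by
    intro T a e p hG θ hu
    rw [famIrr_apply, fam_two h hm T p θ.1 hu]
    split_ifs <;> rw [map_intCast]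
  have hsame : ∀ {T : Subgroup (Cfsg.Sz F m)} {a e : ℕ} {p : Param}
      (hG : Good h T a e p (TP := TP) (TM := TM)), g ∈ conjSet T →
      imgSum h hm hF hG (fun χ => conj ((χ : Cfsg.Sz F m → ℂ) g)) = -(p.ε : ℂ) := by
    intro T a e p hG hT
    rw [img_col h hm hF hG (inv_mem_conjSet hT) 1 (f := fun χ => conj ((χ : Cfsg.Sz F m → ℂ) g)) (fun θ => by
      show conj _ = _
      rw [famIrr_apply, fam_on h hm hF hG θ.1 hT, map_mul, map_intCast, conj_indT, mul_one]), mul_one]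
  have hoth : ∀ {T : Subgroup (Cfsg.Sz F m)} {a e : ℕ} {p : Param}
      (hG : Good h T a e p (TP := TP) (TM := TM)) {S : Subgroup (Cfsg.Sz F m)} {b f : ℕ},
      Tor S b f → Odd b → b ≠ a → g ∈ conjSet S →
      imgSum h hm hF hG (fun χ => conj ((χ : Cfsg.Sz F m → ℂ) g)) = 0 := by
    intro T a e p hG S b f hS hb hne hgS
    refine Finset.sum_eq_zero fun χ hχ => ?_
    obtain ⟨θ, rfl⟩ := (Finset.mem_filter.1 hχ).2
    rw [famIrr_apply, fam_off h hm hF hG θ.1 hS hb hne hgS, map_zero]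
  rcases W_sum h hm hF hW hg with ⟨z, hz⟩ | ⟨z, hz⟩ | ⟨z, hz⟩ | ⟨z, h2, hz⟩ | ⟨z, h2, hz⟩ <;> rw [hz]
  · rw [hsame (good_C h hm hF) z, hoth (good_P h hm hF) (split_tor h hm) o0 n0 z,
      hoth (good_M h hm hF) (split_tor h hm) o0 n1 z]
    refine ne_zero_of_pos (r := 1 - 1 / ((pC F).d : ℝ)) (by simp [pC]; try ring) ?_
    rw [dC, sub_pos, div_lt_one (by positivity), lt_add_iff_pos_left]
    positivity
  · rw [hsame (good_P h hm hF) z, hoth (good_C h hm hF) hF.plus o1 n0.symm z,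
      hoth (good_M h hm hF) hF.plus o1 n2 z]
    refine ne_zero_of_pos (r := 1 + 1 / ((pP F m).d : ℝ) -
      (Fintype.card F : ℝ) / (2 ^ m * ((Fintype.card F : ℝ) - 1))) (by simp [pP]; ring) ?_
    rw [dP, hq]
    generalize (2 : ℝ) ^ m = s at hs
    have b1 : 0 < 1 / ((2 * (s * s) - 2 * s + 1) * (2 * (s * s) - 1)) :=
      div_pos one_pos (mul_pos (by nlinarith) (by nlinarith))
    have b2 : 2 * (s * s) / (s * (2 * (s * s) - 1)) < 1 := by
      rw [div_lt_one (mul_pos (by linarith) (by nlinarith))]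
      nlinarith
    linarith
  · rw [hsame (good_M h hm hF) z, hoth (good_C h hm hF) hF.minus o2 n1.symm z,
      hoth (good_P h hm hF) hF.minus o2 n2.symm z]
    refine ne_zero_of_pos (r := 1 + 1 / ((pM F m).d : ℝ) +
      (Fintype.card F : ℝ) / (2 ^ m * ((Fintype.card F : ℝ) - 1))) (by simp [pM]) ?_
    rw [dM, hq]
    generalize (2 : ℝ) ^ m = s at hs
    have b1 : 0 < 1 / ((2 * (s * s) + 2 * s + 1) * (2 * (s * s) - 1)) :=
      div_pos one_pos (mul_pos (by nlinarith) (by nlinarith))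
    have b2 : 0 ≤ 2 * (s * s) / (s * (2 * (s * s) - 1)) :=
      div_nonneg (by positivity) (mul_nonneg (by linarith) (by nlinarith))
    linarith
  all_goals
    have iA := img_const h hm hF (good_C h hm hF) (f := fun χ => conj ((χ : Cfsg.Sz F m → ℂ) g))
      (fun θ => hconj (good_C h hm hF) θ z)
    have iB := img_const h hm hF (good_P h hm hF) (f := fun χ => conj ((χ : Cfsg.Sz F m → ℂ) g))
      (fun θ => hconj (good_P h hm hF) θ z)
    have iC := img_const h hm hF (good_M h hm hF) (f := fun χ => conj ((χ : Cfsg.Sz F m → ℂ) g))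
      (fun θ => hconj (good_M h hm hF) θ z)
    set SA := imgSum h hm hF (good_C h hm hF) fun χ => conj ((χ : Cfsg.Sz F m → ℂ) g)
    set SB := imgSum h hm hF (good_P h hm hF) fun χ => conj ((χ : Cfsg.Sz F m → ℂ) g)
    set SC := imgSum h hm hF (good_M h hm hF) fun χ => conj ((χ : Cfsg.Sz F m → ℂ) g)
    simp only [h2, if_true, if_false] at iA iB iC
  · have fA : SA = ((((Fintype.card F : ℝ) - 2) / 2 : ℝ) : ℂ) := by
      simp only [pC, c0] at iA; push_cast at iA ⊢; linear_combination (1 / 2 : ℂ) * iA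
    have fB : SB = ((((Fintype.card F : ℝ) + 2 * 2 ^ m) / 4 * (2 * 2 ^ m - 1) : ℝ) : ℂ) := by
      simp only [pP, c1] at iB; push_cast at iB ⊢; rw [hr'] at iB; linear_combination (1 / 4 : ℂ) * iB
    have fC : SC = ((-(((Fintype.card F : ℝ) - 2 * 2 ^ m) / 4 * (2 * 2 ^ m + 1)) : ℝ) : ℂ) := by
      simp only [pM, c2] at iC; push_cast at iC ⊢; rw [hr'] at iC; linear_combination (1 / 4 : ℂ) * iC
    rw [fA, fB, fC]
    refine ne_zero_of_pos (r := 1 + ((Fintype.card F : ℝ) - 2) / 2 / ((pC F).d : ℝ) +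
      ((Fintype.card F : ℝ) + 2 * 2 ^ m) / 4 * (2 * 2 ^ m - 1) / ((pP F m).d : ℝ) -
      ((Fintype.card F : ℝ) - 2 * 2 ^ m) / 4 * (2 * 2 ^ m + 1) / ((pM F m).d : ℝ) +
      (Fintype.card F : ℝ) * 2 ^ m / (2 ^ m * ((Fintype.card F : ℝ) - 1))) (by push_cast; ring) ?_
    rw [dC, dP, dM, hq]
    generalize (2 : ℝ) ^ m = s at hs
    have b1 : 0 ≤ (2 * (s * s) - 2) / 2 / ((2 * (s * s)) ^ 2 + 1) :=
      div_nonneg (by nlinarith) (by positivity)
    have b2 : 0 ≤ (2 * (s * s) + 2 * s) / 4 * (2 * s - 1) / ((2 * (s * s) - 2 * s + 1) * (2 * (s * s) - 1)) :=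
      div_nonneg (mul_nonneg (by nlinarith) (by linarith)) (mul_nonneg (by nlinarith) (by nlinarith))
    have b3 : (2 * (s * s) - 2 * s) / 4 * (2 * s + 1) / ((2 * (s * s) + 2 * s + 1) * (2 * (s * s) - 1)) < 1 := by
      rw [div_lt_one (mul_pos (by nlinarith) (by nlinarith))]
      nlinarith [mul_le_mul_of_nonneg_left hs (show 0 ≤ s * s * s by positivity), sq_nonneg s]
    have b4 : 0 ≤ 2 * (s * s) * s / (s * (2 * (s * s) - 1)) :=
      div_nonneg (by positivity) (mul_nonneg (by linarith) (by nlinarith))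
    linarith
  · have fA : SA = ((((Fintype.card F : ℝ) - 2) / 2 : ℝ) : ℂ) := by
      simp only [pC, c0] at iA; push_cast at iA ⊢; linear_combination (1 / 2 : ℂ) * iA
    have fB : SB = ((-(((Fintype.card F : ℝ) + 2 * 2 ^ m) / 4) : ℝ) : ℂ) := by
      simp only [pP, c1] at iB; push_cast at iB ⊢; linear_combination (1 / 4 : ℂ) * iB
    have fC : SC = ((-(((Fintype.card F : ℝ) - 2 * 2 ^ m) / 4) : ℝ) : ℂ) := by
      simp only [pM, c2] at iC; push_cast at iC ⊢; linear_combination (1 / 4 : ℂ) * iC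
    rw [fA, fB, fC]
    refine ne_zero_of_pos (r := 1 + ((Fintype.card F : ℝ) - 2) / 2 / ((pC F).d : ℝ) -
      ((Fintype.card F : ℝ) + 2 * 2 ^ m) / 4 / ((pP F m).d : ℝ) -
      ((Fintype.card F : ℝ) - 2 * 2 ^ m) / 4 / ((pM F m).d : ℝ)) (by push_cast; ring) ?_
    rw [dC, dP, dM, hq]
    generalize (2 : ℝ) ^ m = s at hs
    have b1 : 0 ≤ (2 * (s * s) - 2) / 2 / ((2 * (s * s)) ^ 2 + 1) :=
      div_nonneg (by nlinarith) (by positivity)
    have b2 : (2 * (s * s) + 2 * s) / 4 / ((2 * (s * s) - 2 * s + 1) * (2 * (s * s) - 1)) < 1 / 2 := by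
      rw [div_lt_iff₀ (mul_pos (by nlinarith) (by nlinarith))]
      nlinarith [mul_le_mul_of_nonneg_left hs (show 0 ≤ s * s * s by positivity), sq_nonneg s]
    have b3 : (2 * (s * s) - 2 * s) / 4 / ((2 * (s * s) + 2 * s + 1) * (2 * (s * s) - 1)) < 1 / 2 := by
      rw [div_lt_iff₀ (mul_pos (by nlinarith) (by nlinarith))]
      nlinarith [mul_le_mul_of_nonneg_left hs (show 0 ≤ s * s * s by positivity), sq_nonneg s]
    linarith

end Cfsg.Agent.Lib.SzChars.Cases
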