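import Cfsg.Agent.Lib.SzChars.Family

/-!
# Column sums of the characters induced from a torus
-/

set_option autoImplicit false
set_option linter.unusedSectionVars false

namespace Cfsg.Agent.Lib.SzChars.Dual

open Cfsg.Agent.Lib.SzTori (conjSet)
open Cfsg.Agent.Lib.SzChars.TISum Cfsg.Agent.Lib.SzChars.Kinds
open scoped ComplexConjugate Classical

universe u

variable {G : Type u} [Group G] [Fintype G] {T : Subgroup G}

theorem finite_dual (hT : IsTorus T) : Finite (↥T →* ℂˣ) ∧ Nat.card (↥T →* ℂˣ) = Nat.card T := by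
  letI : CommGroup ↥T :=
    { (inferInstance : Group ↥T) with mul_comm := fun x y => Subtype.ext (hT.comm x x.2 y y.2) }
  have hc : Nat.card (↥T →* ℂˣ) = Nat.card T := CommGroup.card_monoidHom_of_hasEnoughRootsOfUnity _ _
  exact ⟨Nat.finite_of_card_ne_zero (by rw [hc]; exact Nat.card_pos.ne'), hc⟩

theorem sum_dual (hT : IsTorus T) [Fintype (↥T →* ℂˣ)] (x : ↥T) :
    ∑ θ : ↥T →* ℂˣ, (θ x : ℂ) = if x = 1 then (Nat.card T : ℂ) else 0 := by
  letI : CommGroup ↥T :=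
    { (inferInstance : Group ↥T) with mul_comm := fun x y => Subtype.ext (hT.comm x x.2 y y.2) }
  by_cases hx : x = 1
  · subst hx
    rw [if_pos rfl, ← (finite_dual hT).2, Nat.card_eq_fintype_card]
    simp
  · rw [if_neg hx]
    obtain ⟨φ, hφ⟩ := CommGroup.exists_apply_ne_one_of_hasEnoughRootsOfUnity ↥T ℂ hx
    set S := ∑ θ : ↥T →* ℂˣ, (θ x : ℂ)
    have hS : (φ x : ℂ) * S = S := by
      rw [Finset.mul_sum]
      exact Fintype.sum_equiv (Equiv.mulLeft φ) _ _ fun θ => by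
        simp only [Equiv.coe_mulLeft, MonoidHom.mul_apply, Units.val_mul]
    have hne : (φ x : ℂ) - 1 ≠ 0 := sub_ne_zero.2 fun z => hφ (Units.ext z)
    exact (mul_eq_zero.1 (show ((φ x : ℂ) - 1) * S = 0 by rw [sub_mul, hS, one_mul, sub_self])).resolve_left hne

theorem indT_triv (hT : IsTorus T) {e : ℕ}
    (he : Nat.card (Subgroup.normalizer (T : Set G)) = e * Nat.card T) {c : ↥T} (hc : c ≠ 1) :
    indT (1 : ↥T →* ℂˣ) c = e := by
  rw [indT_apply hT _ hc]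
  have : ∀ n : ↥(Subgroup.normalizer (T : Set G)), ((tw (1 : ↥T →* ℂˣ) n c : ℂˣ) : ℂ) = 1 := fun n => rfl
  simp only [this, Finset.sum_const, Finset.card_univ, nsmul_eq_mul, mul_one]
  rw [← Nat.card_eq_fintype_card, he, Nat.cast_mul]
  have : (Nat.card T : ℂ) ≠ 0 := Nat.cast_ne_zero.2 Nat.card_pos.ne'
  field_simp

/-- Splitting off the trivial character. -/
theorem sum_ne_one [Fintype (↥T →* ℂˣ)] [Fintype {θ : ↥T →* ℂˣ // θ ≠ 1}] (f : (↥T →* ℂˣ) → ℂ) :
    ∑ θ : {θ : ↥T →* ℂˣ // θ ≠ 1}, f θ.1 = (∑ θ, f θ) - f 1 := by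
  rw [← Finset.sum_erase_eq_sub (Finset.mem_univ _)]
  refine Finset.sum_bij (fun θ _ => θ.1) (fun θ _ => Finset.mem_erase.2 ⟨θ.2, Finset.mem_univ _⟩)
    (fun a _ b _ e => Subtype.ext e) ?_ (fun _ _ => rfl)
  intro θ hθ
  exact ⟨⟨θ, (Finset.mem_erase.1 hθ).1⟩, Finset.mem_univ _, rfl⟩

/-- The sum of a column. -/
theorem sum_column (hT : IsTorus T) {e : ℕ}
    (he : Nat.card (Subgroup.normalizer (T : Set G)) = e * Nat.card T)
    [Fintype {θ : ↥T →* ℂˣ // θ ≠ 1}] {g : G} (hg : g ∈ conjSet T) :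
    ∑ θ : {θ : ↥T →* ℂˣ // θ ≠ 1}, indT θ.1 g = -(e : ℂ) := by
  haveI := (finite_dual hT).1
  haveI := Fintype.ofFinite (↥T →* ℂˣ)
  obtain ⟨x, c, hc, hc1, rfl⟩ := hg
  have hc' : (⟨c, hc⟩ : ↥T) ≠ 1 := fun z => hc1 (congrArg Subtype.val z)
  rw [sum_ne_one (fun θ => indT θ (x * c * x⁻¹)), indT_classFun (1 : ↥T →* ℂˣ) c x,
    indT_triv hT he hc', Finset.sum_congr rfl fun θ _ => by
      rw [indT_classFun θ c x, indT_apply hT θ hc'],
    ← Finset.mul_sum, Finset.sum_comm, Finset.sum_eq_zero, mul_zero, zero_sub]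
  intro n _
  have hm : (n : G)⁻¹ * c * n ∈ T := by
    have := (Subgroup.mem_normalizer_iff.1 (inv_mem n.2) c).1 hc
    rwa [inv_inv] at this
  rw [Finset.sum_congr rfl fun θ _ => by rw [tw_apply θ n ⟨c, hc⟩ hm], sum_dual hT, if_neg]
  intro z
  refine hc1 ?_
  have := congrArg Subtype.val z
  simpa [mul_assoc] using congrArg (fun w => (n : G) * w * (n : G)⁻¹) this

/-- The product of two columns. -/
theorem sum_column_mul (hT : IsTorus T) {e : ℕ}
    (he : Nat.card (Subgroup.normalizer (T : Set G)) = e * Nat.card T)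
    [Fintype {θ : ↥T →* ℂˣ // θ ≠ 1}] {g k : G} (hg : g ∈ conjSet T) (hk : k ∈ conjSet T) :
    ∑ θ : {θ : ↥T →* ℂˣ // θ ≠ 1}, indT θ.1 g * indT θ.1 k =
      (if IsConj g k⁻¹ then (e : ℂ) * Nat.card T else 0) - (e : ℂ) ^ 2 := by
  haveI := (finite_dual hT).1
  haveI := Fintype.ofFinite (↥T →* ℂˣ)
  obtain ⟨x, c, hc, hc1, rfl⟩ := hg
  obtain ⟨y, d, hd, hd1, rfl⟩ := hk
  set c' : ↥T := ⟨c, hc⟩
  set d' : ↥T := ⟨d, hd⟩
  have hc' : c' ≠ 1 := fun z => hc1 (congrArg Subtype.val z)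
  have hd' : d' ≠ 1 := fun z => hd1 (congrArg Subtype.val z)
  set N := Subgroup.normalizer (T : Set G)
  set a : ℂ := (Nat.card T : ℂ)
  have ha : a ≠ 0 := Nat.cast_ne_zero.2 Nat.card_pos.ne'
  have hiff : IsConj (x * c * x⁻¹) (y * d * y⁻¹)⁻¹ ↔ ∃ n : ↥N, (n : G)⁻¹ * c * n = d⁻¹ := by
    rw [isConj_iff]
    constructor
    · rintro ⟨t, ht⟩
      have h1 : y⁻¹ * t * x * c * (y⁻¹ * t * x)⁻¹ = d⁻¹ := by
        calc _ = y⁻¹ * (t * (x * c * x⁻¹) * t⁻¹) * y := by group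
          _ = _ := by rw [ht]; group
      refine ⟨⟨(y⁻¹ * t * x)⁻¹, inv_mem (hT.ti _ c hc hc1 (h1 ▸ inv_mem hd))⟩, ?_⟩
      show ((y⁻¹ * t * x)⁻¹)⁻¹ * c * (y⁻¹ * t * x)⁻¹ = d⁻¹
      rw [inv_inv, h1]
    · rintro ⟨n, hn⟩
      refine ⟨y * (n : G)⁻¹ * x⁻¹, ?_⟩
      calc _ = y * ((n : G)⁻¹ * c * n) * y⁻¹ := by group
        _ = _ := by rw [hn]; group
  have hall : ∑ θ : ↥T →* ℂˣ, indT θ c * indT θ d =
      if ∃ n : ↥N, (n : G)⁻¹ * c * n = d⁻¹ then (e : ℂ) * a else 0 := by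
    have h1 : ∀ θ : ↥T →* ℂˣ, indT θ c * indT θ d =
        a⁻¹ * a⁻¹ * ∑ n : ↥N, ∑ k : ↥N, (tw θ n c' : ℂ) * (tw θ k d' : ℂ) := fun θ => by
      rw [show indT θ c = indT θ (c' : G) from rfl, show indT θ d = indT θ (d' : G) from rfl,
        indT_apply hT θ hc', indT_apply hT θ hd', mul_mul_mul_comm, Finset.sum_mul_sum]
    rw [Finset.sum_congr rfl fun θ _ => h1 θ, ← Finset.mul_sum, Finset.sum_comm]
    have h2 : ∀ n : ↥N, ∑ θ : ↥T →* ℂˣ, ∑ k : ↥N, (tw θ n c' : ℂ) * (tw θ k d' : ℂ) =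
        a * (Finset.univ.filter fun k : ↥N => (n : G)⁻¹ * c * n * ((k : G)⁻¹ * d * k) = 1).card := by
      intro n
      rw [Finset.sum_comm]
      have h3 : ∀ k : ↥N, ∑ θ : ↥T →* ℂˣ, (tw θ n c' : ℂ) * (tw θ k d' : ℂ) =
          if (n : G)⁻¹ * c * n * ((k : G)⁻¹ * d * k) = 1 then a else 0 := by
        intro k
        have hmn : (n : G)⁻¹ * c * n ∈ T := by
          have := (Subgroup.mem_normalizer_iff.1 (inv_mem n.2) c).1 hc
          rwa [inv_inv] at this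
        have hmk : (k : G)⁻¹ * d * k ∈ T := by
          have := (Subgroup.mem_normalizer_iff.1 (inv_mem k.2) d).1 hd
          rwa [inv_inv] at this
        rw [Finset.sum_congr rfl fun θ _ => by
          rw [tw_apply θ n c' hmn, tw_apply θ k d' hmk, ← Units.val_mul, ← map_mul], sum_dual hT]
        exact if_congr ⟨fun z => congrArg Subtype.val z, fun z => Subtype.ext z⟩ rfl rfl
      rw [Finset.sum_congr rfl fun k _ => h3 k, Finset.sum_ite, Finset.sum_const_zero, add_zero,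
        Finset.sum_const, nsmul_eq_mul, mul_comm]
    rw [Finset.sum_congr rfl fun n _ => h2 n, ← Finset.mul_sum]
    by_cases hex : ∃ n : ↥N, (n : G)⁻¹ * c * n = d⁻¹
    · obtain ⟨m, hm⟩ := hex
      rw [if_pos ⟨m, hm⟩]
      have hcnt : ∀ n : ↥N, (Finset.univ.filter fun k : ↥N =>
          (n : G)⁻¹ * c * n * ((k : G)⁻¹ * d * k) = 1).card = Nat.card T := by
        intro n
        rw [Nat.card_eq_fintype_card, ← Finset.card_univ]
        symm
        refine Finset.card_bij (fun (t : ↥T) _ => ⟨t, Subgroup.le_normalizer t.2⟩ * (m⁻¹ * n)) ?_ ?_ ?_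
        · intro t _
          refine Finset.mem_filter.2 ⟨Finset.mem_univ _, ?_⟩
          have hd2 : (t : G)⁻¹ * d * t = d := by rw [mul_assoc, hT.comm d hd t t.2, inv_mul_cancel_left]
          show (n : G)⁻¹ * c * n * (((t : G) * ((m : G)⁻¹ * n))⁻¹ * d * ((t : G) * ((m : G)⁻¹ * n))) = 1
          rw [show ((t : G) * ((m : G)⁻¹ * n))⁻¹ * d * ((t : G) * ((m : G)⁻¹ * n)) =
            (n : G)⁻¹ * m * ((t : G)⁻¹ * d * t) * ((m : G)⁻¹ * n) by group, hd2,
            show d = ((m : G)⁻¹ * c * m)⁻¹ by rw [hm, inv_inv]]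
          group
        · intro s _ t _ e'
          exact Subtype.ext (congrArg (fun z : ↥N => (z : G)) (mul_right_cancel e') :)
        · intro k hk
          have h4 : (n : G)⁻¹ * c * n * ((k : G)⁻¹ * d * k) = 1 := (Finset.mem_filter.1 hk).2
          have h5 : ((k : G) * ((m : G)⁻¹ * n)⁻¹)⁻¹ * d * ((k : G) * ((m : G)⁻¹ * n)⁻¹) = d := by
            have h6 : (k : G)⁻¹ * d * k = ((n : G)⁻¹ * c * n)⁻¹ := eq_inv_of_mul_eq_one_right h4
            calc _ = (m : G)⁻¹ * n * ((k : G)⁻¹ * d * k) * ((m : G)⁻¹ * n)⁻¹ := by group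
              _ = ((m : G)⁻¹ * c * m)⁻¹ := by rw [h6]; group
              _ = d := by rw [hm, inv_inv]
          have h7 : (k : G) * ((m : G)⁻¹ * n)⁻¹ ∈ T := by
            refine (hT.cent d hd hd1).le ?_
            rw [Subgroup.mem_centralizer_singleton_iff]
            conv_lhs => arg 2; rw [← h5]
            group
          exact ⟨⟨_, h7⟩, Finset.mem_univ _, Subtype.ext (inv_mul_cancel_right _ _)⟩
      simp only [hcnt, Finset.sum_const, Finset.card_univ, nsmul_eq_mul]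
      rw [← Nat.card_eq_fintype_card, he, Nat.cast_mul, show (Nat.card T : ℂ) = a from rfl]
      field_simp
    · rw [if_neg hex, Finset.sum_eq_zero, mul_zero, mul_zero]
      intro n _
      rw [Nat.cast_eq_zero, Finset.card_eq_zero, Finset.filter_eq_empty_iff]
      intro k _ h4
      have h6 : (n : G)⁻¹ * c * n = ((k : G)⁻¹ * d * k)⁻¹ := eq_inv_of_mul_eq_one_left h4
      refine hex ⟨n * k⁻¹, ?_⟩
      show ((n : G) * (k : G)⁻¹)⁻¹ * c * ((n : G) * (k : G)⁻¹) = d⁻¹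
      calc _ = (k : G) * ((n : G)⁻¹ * c * n) * (k : G)⁻¹ := by group
        _ = _ := by rw [h6]; group
  rw [sum_ne_one (fun θ => indT θ (x * c * x⁻¹) * indT θ (y * d * y⁻¹)),
    indT_classFun (1 : ↥T →* ℂˣ) c x, indT_classFun (1 : ↥T →* ℂˣ) d y,
    show indT (1 : ↥T →* ℂˣ) c = (e : ℂ) from indT_triv hT he hc',
    show indT (1 : ↥T →* ℂˣ) d = (e : ℂ) from indT_triv hT he hd',
    Finset.sum_congr rfl fun θ _ => by rw [indT_classFun θ c x, indT_classFun θ d y], hall, if_congr hiff rfl rfl]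
  ring

/-- The conjugate of an induced character value is the value at the inverse. -/
theorem conj_indT (θ : ↥T →* ℂˣ) (g : G) : conj (indT θ g) = indT θ g⁻¹ := by
  rw [indT, indT, map_mul, map_inv₀, Complex.conj_natCast, map_sum]
  refine congrArg _ (Finset.sum_congr rfl fun x _ => ?_)
  rw [show x⁻¹ * g⁻¹ * x = (x⁻¹ * g * x)⁻¹ by group, ext0, ext0]
  by_cases h : x⁻¹ * g * x ∈ T
  · rw [dif_pos h, dif_pos (inv_mem h),
      show (⟨(x⁻¹ * g * x)⁻¹, inv_mem h⟩ : ↥T) = ⟨x⁻¹ * g * x, h⟩⁻¹ from rfl, map_inv, Units.val_inv_eq_inv_val]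
    refine (Complex.inv_eq_conj ?_).symm
    refine Complex.norm_eq_one_of_pow_eq_one (n := Fintype.card ↥T) ?_ Fintype.card_ne_zero
    rw [← Units.val_pow_eq_pow_val, ← map_pow, pow_card_eq_one, map_one, Units.val_one]
  · rw [dif_neg h, dif_neg (fun z => h (by simpa using inv_mem z)), map_zero]

theorem inv_mem_conjSet {g : G} (hg : g ∈ conjSet T) : g⁻¹ ∈ conjSet T := by
  obtain ⟨x, c, hc, hc1, rfl⟩ := hg
  exact ⟨x, c⁻¹, inv_mem hc, inv_ne_one.2 hc1, by group⟩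

/-- Values of induced characters are at most `e`. -/
theorem norm_indT_le (hT : IsTorus T) {a e : ℕ} (hTor : Tor T a e) (θ : ↥T →* ℂˣ) {g : G}
    (hg : g ∈ conjSet T) : ‖indT θ g‖ ≤ e := by
  obtain ⟨x, c, hc, hc1, rfl⟩ := hg
  rw [indT_classFun θ c x,
    show indT θ c = _ from Family.card_orbit_sum hT θ (c := ⟨c, hc⟩) (fun z => hc1 (congrArg Subtype.val z))]
  refine (norm_sum_le _ _).trans ?_
  rw [Finset.sum_congr rfl fun x _ => Complex.norm_eq_one_of_pow_eq_one (n := Fintype.card ↥T)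
      (by rw [← Units.val_pow_eq_pow_val, ← map_pow, pow_card_eq_one, map_one, Units.val_one])
      Fintype.card_ne_zero,
    Finset.sum_const, Finset.card_univ, Family.card_cosets hTor]
  simp

end Cfsg.Agent.Lib.SzChars.Dual
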