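import Cfsg.Agent.Lib.SzChars.UChars
import Cfsg.Agent.Lib.StarChar.Section
import Cfsg.Agent.Lib.Induced.Character
import Mathlib.GroupTheory.FiniteAbelian.Duality

/-!
# The families of irreducible characters attached to the tori of a Suzuki group
-/

set_option autoImplicit false
set_option linter.unusedSectionVars false

namespace Cfsg.Agent.Lib.SzChars.Family

open Cfsg.Agent.Lib.LieTwisted.Suzuki Cfsg.Agent.Lib.SzElements.Basic
open Cfsg.Agent.Lib.SzTori
open Cfsg.Agent.Lib.SzChars.TISum Cfsg.Agent.Lib.SzChars.Kinds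
open scoped ComplexConjugate Classical

variable {F : Type*} [Field F] [Fintype F] {m : ℕ} [Fintype (Cfsg.Sz F m)]

/-- The data of a family. -/
structure Param where
  d : ℤ
  u₂ : ℤ
  u₄ : ℤ
  ε : ℤ

/-- A member of a family. -/
noncomputable def fam (T : Subgroup (Cfsg.Sz F m)) (p : Param) (θ : ↥T →* ℂˣ) (g : Cfsg.Sz F m) : ℂ :=
  if g = 1 then (p.d : ℂ) else if g ^ 4 = 1 then (if g ^ 2 = 1 then (p.u₂ : ℂ) else p.u₄)
    else (p.ε : ℂ) * indT θ g

theorem fam_classFun (T : Subgroup (Cfsg.Sz F m)) (p : Param) (θ : ↥T →* ℂˣ) :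
    Cfsg.IsClassFunction (Cfsg.Sz F m) (fam T p θ) := by
  intro g t
  have e1 : t * g * t⁻¹ = 1 ↔ g = 1 := conj_eq_one_iff
  have e2 : ∀ k : ℕ, (t * g * t⁻¹) ^ k = 1 ↔ g ^ k = 1 := fun k => by rw [conj_pow, conj_eq_one_iff]
  unfold fam
  rw [indT_classFun θ g t]
  exact if_congr e1 rfl (if_congr (e2 4) (if_congr (e2 2) rfl rfl) rfl)

theorem fam_one (T : Subgroup (Cfsg.Sz F m)) (p : Param) (θ : ↥T →* ℂˣ) :
    fam T p θ 1 = p.d := if_pos rfl

variable (h : IsSzField F m) (hm : 1 ≤ m) {TP TM : Subgroup (Cfsg.Sz F m)} (hF : Frame h TP TM)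

include h hm

theorem fam_two (T : Subgroup (Cfsg.Sz F m)) (p : Param) (θ : ↥T →* ℂˣ) {g : Cfsg.Sz F m}
    (hg : g ∈ conjSet (unip h)) : fam T p θ g = if g ^ 2 = 1 then (p.u₂ : ℂ) else p.u₄ := by
  have h4 := pow_four_unip h hm hg
  obtain ⟨x, c, -, hc1, rfl⟩ := hg
  rw [fam, if_neg (fun e => hc1 (conj_eq_one_iff.1 e)), if_pos h4]

theorem fam_tor (T : Subgroup (Cfsg.Sz F m)) (p : Param) (θ : ↥T →* ℂˣ) {g : Cfsg.Sz F m}
    (hg : g ^ 4 ≠ 1) : fam T p θ g = (p.ε : ℂ) * indT θ g := by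
  rw [fam, if_neg (fun e => hg (by rw [e, one_pow])), if_neg hg]

include hF in
theorem mem_conjSet_unip {g : Cfsg.Sz F m} (h1 : g ≠ 1) (h4 : g ^ 4 = 1) : g ∈ conjSet (unip h) := by
  obtain ⟨o0, o1, o2⟩ := odd_facts h hm
  rcases hF.cover g h1 with z | z | z | z
  · exact z
  · exact absurd h4 (pow_four_tor h hm (split_tor h hm) o0 z)
  · exact absurd h4 (pow_four_tor h hm hF.plus o1 z)
  · exact absurd h4 (pow_four_tor h hm hF.minus o2 z)

/-- The congruences and the norm identity of a family over the torus `T`. -/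
structure Good (T : Subgroup (Cfsg.Sz F m)) (a e : ℕ) (p : Param) : Prop where
  tor : Tor T a e
  odd : Odd a
  mem : T = (dS h).range ∨ T = TP ∨ T = TM
  kU : ∃ k, (p.d - p.u₄) + ((Fintype.card F : ℤ) - 1) * (p.u₂ - p.u₄) = (Fintype.card F : ℤ) ^ 2 * k
  kU' : ∃ k, 2 ^ m * ((p.d - p.u₄) - (p.u₂ - p.u₄)) = (Fintype.card F : ℤ) ^ 2 * k
  self : ∃ k, p.d - p.ε * e = (a : ℤ) * k
  others : ∀ S : Subgroup (Cfsg.Sz F m), (S = (dS h).range ∨ S = TP ∨ S = TM) → Nat.card S ≠ a →
    ∃ k, p.d = (Nat.card S : ℤ) * k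
  sign : p.ε * p.ε = 1
  pos : 0 < p.d
  norm : (a : ℤ) * (p.d ^ 2 + ((Fintype.card F : ℤ) ^ 2 + 1) * (((Fintype.card F : ℤ) - 1) * p.u₂ ^ 2 +
      ((Fintype.card F : ℤ) ^ 2 - Fintype.card F) * p.u₄ ^ 2)) = (Nat.card (Cfsg.Sz F m) : ℤ) * e

omit h hm in
theorem gen_delta {G : Type*} [Group G] [Fintype G] [DecidableEq G] (k : ℤ) :
    Cfsg.IsGeneralizedCharacter G (fun g : G => if g = 1 then (Nat.card G : ℂ) * k else 0) := by
  refine Cfsg.Agent.Lib.Characters.Generalized.of_classInner_int (fun g t => ?_) fun χ => ?_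
  · exact if_congr conj_eq_one_iff rfl rfl
  · obtain ⟨n, -, -, hn⟩ := Cfsg.Agent.Lib.Characters.Degree.exists_degree_dvd χ
    refine ⟨k * n, ?_⟩
    have hG : (Nat.card G : ℂ) ≠ 0 := Nat.cast_ne_zero.2 Nat.card_pos.ne'
    simp only [Cfsg.classInner, ite_mul, zero_mul, Finset.sum_ite_eq', Finset.mem_univ, if_true, hn,
      Complex.conj_natCast]
    push_cast
    field_simp

omit h hm in
theorem gen_linear {G : Type*} [Group G] {T : Subgroup G} (φ : ↥T →* ℂˣ) [Fintype ↥T] :
    Cfsg.IsGeneralizedCharacter ↥T (fun c => (φ c : ℂ)) :=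
  Cfsg.Agent.Lib.Characters.Generalized.of_isCharacter (Cfsg.Agent.Lib.Induced.Character.isCharacter_hom φ)

omit h hm in
theorem card_orbit_sum {G : Type*} [Group G] [Fintype G] {T : Subgroup G} (hT : IsTorus T)
    (θ : ↥T →* ℂˣ) {c : ↥T} (hc : c ≠ 1) :
    indT θ c = ∑ x : ↥(Subgroup.normalizer (T : Set G)) ⧸ T.subgroupOf (Subgroup.normalizer (T : Set G)),
      (tw θ x.out c : ℂ) := by
  set N := Subgroup.normalizer (T : Set G)
  rw [indT_apply hT θ hc, ← Finset.sum_fiberwise (s := (Finset.univ : Finset ↥N))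
    (g := fun n : ↥N => (QuotientGroup.mk n : ↥N ⧸ T.subgroupOf N)) (f := fun n => (tw θ n c : ℂ)),
    Finset.mul_sum]
  refine Finset.sum_congr rfl fun x _ => ?_
  have hcst : ∀ n ∈ Finset.univ.filter (fun n : ↥N => (QuotientGroup.mk n : ↥N ⧸ T.subgroupOf N) = x),
      (tw θ n c : ℂ) = (tw θ x.out c : ℂ) := by
    intro n hn
    have h1 : x.out⁻¹ * n ∈ T.subgroupOf N :=
      QuotientGroup.eq.1 (((QuotientGroup.out_eq' x).trans (Finset.mem_filter.1 hn).2.symm))
    have h2 : n = x.out * (x.out⁻¹ * n) := (mul_inv_cancel_left _ _).symm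
    have h3 : tw θ (x.out⁻¹ * n) = θ := by
      refine MonoidHom.ext fun d => congrArg θ (Subtype.ext ?_)
      show ((x.out⁻¹ * n : ↥N) : G)⁻¹ * (d : G) * ((x.out⁻¹ * n : ↥N) : G) = d
      rw [mul_assoc, hT.comm (d : G) d.2 ((x.out⁻¹ * n : ↥N) : G) h1, inv_mul_cancel_left]
    rw [h2, tw_mul, h3]
  rw [Finset.sum_congr rfl hcst, Finset.sum_const, nsmul_eq_mul]
  have hcard : (Finset.univ.filter fun n : ↥N => (QuotientGroup.mk n : ↥N ⧸ T.subgroupOf N) = x).card =
      Nat.card T := by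
    rw [Nat.card_eq_fintype_card, ← Finset.card_univ]
    symm
    refine Finset.card_bij (fun (t : ↥T) _ => x.out * ⟨t, Subgroup.le_normalizer t.2⟩) ?_ ?_ ?_
    · intro t _
      refine Finset.mem_filter.2 ⟨Finset.mem_univ _, ?_⟩
      rw [← QuotientGroup.out_eq' x, QuotientGroup.eq, QuotientGroup.out_eq']
      simpa [Subgroup.mem_subgroupOf] using inv_mem t.2
    · intro s _ t _ e'
      exact Subtype.ext (congrArg (fun z : ↥N => (z : G)) (mul_left_cancel e') :)
    · intro n hn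
      have h1 : x.out⁻¹ * n ∈ T.subgroupOf N :=
        QuotientGroup.eq.1 (((QuotientGroup.out_eq' x).trans (Finset.mem_filter.1 hn).2.symm))
      exact ⟨⟨_, h1⟩, Finset.mem_univ _, Subtype.ext (mul_inv_cancel_left (x.out : G) n)⟩
  rw [hcard, ← mul_assoc, inv_mul_cancel₀ (Nat.cast_ne_zero.2 Nat.card_pos.ne'), one_mul]

omit h hm in
theorem card_cosets {G : Type*} [Group G] [Fintype G] {T : Subgroup G} {a e : ℕ} (hT : Tor T a e) :
    Fintype.card (↥(Subgroup.normalizer (T : Set G)) ⧸ T.subgroupOf (Subgroup.normalizer (T : Set G))) = e := by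
  rw [← Nat.card_eq_fintype_card]
  have h1 := (T.subgroupOf (Subgroup.normalizer (T : Set G))).card_eq_card_quotient_mul_card_subgroup
  rw [hT.normalizer, Nat.card_congr (Subgroup.subgroupOfEquivOfLe Subgroup.le_normalizer).toEquiv,
    hT.card] at h1
  exact Nat.eq_of_mul_eq_mul_right (hT.card ▸ Nat.card_pos) h1.symm

variable {T : Subgroup (Cfsg.Sz F m)} {a e : ℕ} {p : Param}

include hF in
/-- The members of a family are generalized characters. -/
theorem fam_gen (hG : Good h T a e p (TP := TP) (TM := TM)) (θ : ↥T →* ℂˣ) :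
    Cfsg.IsGeneralizedCharacter (Cfsg.Sz F m) (fam T p θ) := by
  obtain ⟨o0, o1, o2⟩ := odd_facts h hm
  refine isGeneralized_of_restrict h hm hF (fam_classFun T p θ) fun S hS => ?_
  rcases hS with rfl | hS
  · obtain ⟨k, hk⟩ := hG.kU
    obtain ⟨k', hk'⟩ := hG.kU'
    refine UChars.isGeneralized h hm (k := k) (k' := k') ?_ ?_ ?_ hk hk'
    · exact fam_one T p θ
    · intro c hc hc2
      rw [fam_two h hm T p θ ⟨1, c, c.2, fun z => hc (Subtype.ext z), by group⟩,
        if_pos (by simpa using congrArg Subtype.val hc2)]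
    · intro c hc2
      have hc : c ≠ 1 := fun z => hc2 (by rw [z, one_pow])
      rw [fam_two h hm T p θ ⟨1, c, c.2, fun z => hc (Subtype.ext z), by group⟩,
        if_neg fun z => hc2 (Subtype.ext (by simpa using z))]
  · have hSt : ∃ b f, Tor S b f ∧ Odd b := by
      rcases hS with rfl | rfl | rfl
      · exact ⟨_, _, split_tor h hm, o0⟩
      · exact ⟨_, _, hF.plus, o1⟩
      · exact ⟨_, _, hF.minus, o2⟩
    obtain ⟨b, f, hSt, hb⟩ := hSt
    have h4 : ∀ c : ↥S, c ≠ 1 → ((c : Cfsg.Sz F m)) ^ 4 ≠ 1 := fun c hc =>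
      pow_four_tor h hm hSt hb ⟨1, c, c.2, fun z => hc (Subtype.ext z), by group⟩
    by_cases hST : S = T
    · subst hST
      obtain ⟨k, hk⟩ := hG.self
      have heq : (fun c : ↥S => fam S p θ c) =
          (fun c : ↥S => (if c = 1 then (Nat.card ↥S : ℂ) * k else 0)) +
          ∑ x : ↥(Subgroup.normalizer (S : Set (Cfsg.Sz F m))) ⧸
              S.subgroupOf (Subgroup.normalizer (S : Set (Cfsg.Sz F m))),
            p.ε • (fun c : ↥S => (tw θ x.out c : ℂ)) := by
        funext c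
        simp only [Pi.add_apply, Finset.sum_apply, Pi.smul_apply]
        simp only [zsmul_eq_mul, ← Finset.mul_sum]
        by_cases hc : c = 1
        · subst hc
          rw [if_pos rfl, Subgroup.coe_one, fam_one]
          simp only [map_one, Units.val_one, Finset.sum_const, Finset.card_univ, nsmul_eq_mul, mul_one]
          rw [card_cosets hG.tor, hG.tor.card]
          have := congrArg (Int.cast (R := ℂ)) hk
          push_cast at this
          linear_combination this
        · rw [if_neg hc, zero_add, fam_tor h hm S p θ (h4 c hc), card_orbit_sum hG.tor.isTorus θ hc]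
      rw [heq]
      exact Cfsg.Agent.Lib.Characters.Generalized.add (gen_delta k)
        (Cfsg.Agent.Lib.Characters.Generalized.sum _ fun x _ =>
          Cfsg.Agent.Lib.Characters.Generalized.zsmul (gen_linear _) _)
    · have hba : Nat.card S ≠ a := by
        obtain ⟨n0, n1, n2⟩ := torus_ne h hm
        have hC := card_range_dS h hm
        have hP := hF.plus.card
        have hM := hF.minus.card
        intro e'
        rw [← hG.tor.card] at e'
        rcases hG.mem with hT' | hT' | hT' <;> rcases hS with rfl | rfl | rfl <;>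
          first
          | exact hST hT'.symm
          | (rw [hT'] at e'; omega)
      have hzero : ∀ c : ↥S, c ≠ 1 → indT θ (c : Cfsg.Sz F m) = 0 := by
        intro c hc
        refine indT_of_not_mem θ (fun hcT => hba ?_) (fun z => hc (Subtype.ext z))
        rw [hSt.card, ← cen_card_tor hSt (show (c : Cfsg.Sz F m) ∈ conjSet S from ⟨1, c, c.2, fun z => hc (Subtype.ext z), by group⟩),
          ← cen_card_tor hG.tor hcT]
      obtain ⟨k, hk⟩ := hG.others S hS hba
      have heq : (fun c : ↥S => fam T p θ c) =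
          (fun c : ↥S => if c = 1 then (Nat.card ↥S : ℂ) * k else 0) := by
        funext c
        by_cases hc : c = 1
        · subst hc
          rw [if_pos rfl, Subgroup.coe_one, fam_one, hk]
          push_cast
          ring
        · rw [if_neg hc, fam_tor h hm T p θ (h4 c hc), hzero c hc, mul_zero]
      rw [heq]
      exact gen_delta k

omit h hm in
theorem tw_indT {G : Type*} [Group G] [Fintype G] {T : Subgroup G} (hT : IsTorus T) (θ : ↥T →* ℂˣ)
    (n : ↥(Subgroup.normalizer (T : Set G))) (c : G) : indT (tw θ n) c = indT θ c := by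
  by_cases h1 : c = 1
  · rw [h1, indT_one, indT_one]
  by_cases hc : c ∈ conjSet T
  · obtain ⟨x, d, hd, hd1, rfl⟩ := hc
    rw [indT_classFun (tw θ n) d x, indT_classFun θ d x,
      indT_apply hT (tw θ n) (c := ⟨d, hd⟩) (fun z => hd1 (congrArg Subtype.val z)),
      indT_apply hT θ (c := ⟨d, hd⟩) (fun z => hd1 (congrArg Subtype.val z))]
    congr 1
    exact Fintype.sum_equiv (Equiv.mulRight n) _ _ fun k => by
      rw [Equiv.coe_mulRight, tw_mul]
  · rw [indT_of_not_mem _ hc h1, indT_of_not_mem _ hc h1]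

include hF in
/-- A class function supported on the identity, the root group and one torus. -/
theorem sum_supported (hT : Tor T a e) (ha : Odd a) {φ : Cfsg.Sz F m → ℂ}
    (hφ : Cfsg.IsClassFunction (Cfsg.Sz F m) φ)
    (hsupp : ∀ g, g ^ 4 ≠ 1 → g ∉ conjSet T → φ g = 0) :
    ∑ g : Cfsg.Sz F m, φ g = φ 1 + ((Fintype.card F : ℂ) ^ 2 + 1) *
        (∑ c ∈ Finset.univ.filter (fun c => c ∈ unip h ∧ c ≠ 1), φ c) +
      (Nat.card (Cfsg.Sz F m) : ℂ) / ((e : ℂ) * a) *
        (∑ c ∈ Finset.univ.filter (fun c => c ∈ T ∧ c ≠ 1), φ c) := by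
  obtain ⟨-, -, -, -, h8⟩ := r_facts h hm
  set U := Finset.univ.filter (fun y => y ∈ conjSet (unip h))
  set S := Finset.univ.filter (fun y => y ∈ conjSet T)
  have hne : ∀ {K : Subgroup (Cfsg.Sz F m)} {g}, g ∈ conjSet K → g ≠ 1 := by
    rintro K _ ⟨x, c, -, hc1, rfl⟩ z
    exact hc1 (conj_eq_one_iff.1 z)
  have h1 : (1 : Cfsg.Sz F m) ∉ U ∪ S := by
    intro z
    rcases Finset.mem_union.1 z with z | z <;> exact hne (Finset.mem_filter.1 z).2 rfl
  have hd : Disjoint U S := Finset.disjoint_left.2 fun y hy hy' =>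
    pow_four_tor h hm hT ha (Finset.mem_filter.1 hy').2 (pow_four_unip h hm (Finset.mem_filter.1 hy).2)
  rw [← Finset.sum_subset (Finset.subset_univ (insert 1 (U ∪ S))), Finset.sum_insert h1,
    Finset.sum_union hd]
  · have eU : (∑ y ∈ U, φ y) * (Nat.card (Subgroup.normalizer ((unip h : Subgroup (Cfsg.Sz F m)) : Set (Cfsg.Sz F m))) : ℂ) =
        (Nat.card (Cfsg.Sz F m) : ℂ) * ∑ c ∈ Finset.univ.filter (fun c => c ∈ unip h ∧ c ≠ 1), φ c := by
      convert sum_conjSet (unip h) (ti_unip h hm) hφ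
    have eS : (∑ y ∈ S, φ y) * (Nat.card (Subgroup.normalizer ((T : Subgroup (Cfsg.Sz F m)) : Set (Cfsg.Sz F m))) : ℂ) =
        (Nat.card (Cfsg.Sz F m) : ℂ) * ∑ c ∈ Finset.univ.filter (fun c => c ∈ T ∧ c ≠ 1), φ c := by
      convert sum_conjSet T hT.isTorus.ti hφ
    rw [card_normalizer_unip h hm, h.card_group hm] at eU
    rw [hT.normalizer] at eS
    push_cast [Nat.cast_sub (show 1 ≤ Fintype.card F by omega)] at eU eS
    have hea : (e : ℂ) * a ≠ 0 := by
      have := Nat.card_pos (α := ↥(Subgroup.normalizer (T : Set (Cfsg.Sz F m))))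
      rw [hT.normalizer] at this
      exact_mod_cast this.ne'
    have hq : (Fintype.card F : ℂ) ^ 2 * ((Fintype.card F : ℂ) - 1) ≠ 0 :=
      mul_ne_zero (pow_ne_zero 2 (Nat.cast_ne_zero.2 (by omega))) (sub_ne_zero.2 (Nat.cast_ne_one.2 (by omega)))
    rw [show ∑ y ∈ U, φ y = ((Fintype.card F : ℂ) ^ 2 + 1) *
        ∑ c ∈ Finset.univ.filter (fun c => c ∈ unip h ∧ c ≠ 1), φ c from
      mul_right_cancel₀ hq (by linear_combination eU),
      show ∑ y ∈ S, φ y = (Nat.card (Cfsg.Sz F m) : ℂ) / ((e : ℂ) * a) *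
        ∑ c ∈ Finset.univ.filter (fun c => c ∈ T ∧ c ≠ 1), φ c from
      mul_right_cancel₀ hea (by rw [eS, mul_right_comm, div_mul_cancel₀ _ hea])]
    ring
  · intro g _ hg
    simp only [Finset.mem_insert, Finset.mem_union, U, S, Finset.mem_filter, Finset.mem_univ,
      true_and, not_or] at hg
    exact hsupp g (fun h4 => hg.2.1 (mem_conjSet_unip h hm hF hg.1 h4)) hg.2.2

include hF in
/-- The inner product of two members of a family. -/
theorem fam_inner (hG : Good h T a e p (TP := TP) (TM := TM)) {θ θ' : ↥T →* ℂˣ} (hθ : θ' ≠ 1) :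
    Cfsg.classInner (fam T p θ) (fam T p θ') = if ∃ n, tw θ' n = θ then 1 else 0 := by
  have hφ : Cfsg.IsClassFunction (Cfsg.Sz F m) (fun g => fam T p θ g * conj (fam T p θ' g)) := fun g t => by
    show fam T p θ (t * g * t⁻¹) * conj (fam T p θ' (t * g * t⁻¹)) = _
    rw [fam_classFun T p θ g t, fam_classFun T p θ' g t]
  rw [Cfsg.classInner, sum_supported h hm hF hG.tor hG.odd hφ (fun g h4 hgT => by
    rw [fam_tor h hm T p θ h4, indT_of_not_mem θ hgT (fun e' => h4 (by rw [e', one_pow]))]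
    simp)]
  rw [sum_unip h hm (u₂ := (p.u₂ : ℂ) * p.u₂) (u₄ := (p.u₄ : ℂ) * p.u₄)
    (fun c hc hc1 hc2 => by
      rw [fam_two h hm T p θ ⟨1, c, hc, hc1, by group⟩, fam_two h hm T p θ' ⟨1, c, hc, hc1, by group⟩,
        if_pos hc2, map_intCast])
    (fun c hc hc2 => by
      have hc1 : c ≠ 1 := fun z => hc2 (by rw [z, one_pow])
      rw [fam_two h hm T p θ ⟨1, c, hc, hc1, by group⟩, fam_two h hm T p θ' ⟨1, c, hc, hc1, by group⟩,
        if_neg hc2, map_intCast]),
    show ∑ c ∈ Finset.univ.filter (fun c => c ∈ T ∧ c ≠ 1), fam T p θ c * conj (fam T p θ' c) =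
        (if ∃ n, tw θ' n = θ then (e : ℂ) * Nat.card T else 0) - (e : ℂ) ^ 2 from by
      rw [Finset.sum_congr rfl (g := fun c => indT θ c * conj (indT θ' c)) fun c hc => by
        have hc' := (Finset.mem_filter.1 hc).2
        have h4 := pow_four_tor h hm hG.tor hG.odd (show c ∈ conjSet T from ⟨1, c, hc'.1, hc'.2, by group⟩)
        rw [fam_tor h hm T p θ h4, fam_tor h hm T p θ' h4, map_mul, map_intCast, mul_mul_mul_comm,
          ← Int.cast_mul, hG.sign, Int.cast_one, one_mul]]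
      convert sum_indT hG.tor.isTorus (e := e) (by rw [hG.tor.normalizer, hG.tor.card]) (θ := θ) hθ,
    fam_one, fam_one, map_intCast, hG.tor.card]
  have hn := congrArg (Int.cast (R := ℂ)) hG.norm
  push_cast at hn
  have hN := Nat.card_pos (α := ↥(Subgroup.normalizer (T : Set (Cfsg.Sz F m))))
  rw [hG.tor.normalizer] at hN
  have he : (e : ℂ) ≠ 0 := Nat.cast_ne_zero.2 (fun z => by simp [z] at hN)
  have ha : (a : ℂ) ≠ 0 := Nat.cast_ne_zero.2 (fun z => by simp [z] at hN)
  have hg : (Nat.card (Cfsg.Sz F m) : ℂ) ≠ 0 := Nat.cast_ne_zero.2 Nat.card_pos.ne'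
  split_ifs
  · field_simp
    first
    | linear_combination hn
    | linear_combination (e : ℂ) * hn
    | linear_combination (a : ℂ) * hn
  · field_simp
    first
    | linear_combination hn
    | linear_combination (e : ℂ) * hn
    | linear_combination (a : ℂ) * hn

/-- The irreducible character of the family belonging to `θ`. -/
noncomputable def famIrr (hF : Frame h TP TM) (hG : Good h T a e p (TP := TP) (TM := TM))
    (θ : {θ : ↥T →* ℂˣ // θ ≠ 1}) : Cfsg.IrrCharacter (Cfsg.Sz F m) :=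
  ⟨fam T p θ.1, Cfsg.Agent.Lib.StarChar.Section.isIrr_of_norm_one (fam_gen h hm hF hG θ.1)
    (by rw [fam_inner h hm hF hG θ.2, if_pos ⟨1, tw_one θ.1⟩]) (d := p.d.toNat)
    (by have := hG.pos; omega)
    (by
      rw [fam_one]
      conv_lhs => rw [← Int.toNat_of_nonneg hG.pos.le]
      rfl)⟩

include hF in
/-- Every fibre of a family has `e` elements. -/
theorem card_fibre (hG : Good h T a e p (TP := TP) (TM := TM)) [Fintype {θ : ↥T →* ℂˣ // θ ≠ 1}]
    (χ : Cfsg.IrrCharacter (Cfsg.Sz F m)) (hχ : χ ∈ Finset.univ.image (famIrr h hm hF hG)) :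
    (Finset.univ.filter (fun θ => famIrr h hm hF hG θ = χ)).card = e := by
  letI : CommGroup ↥T :=
    { (inferInstance : Group ↥T) with mul_comm := fun x y => Subtype.ext (hG.tor.isTorus.comm x x.2 y y.2) }
  obtain ⟨θ', -, rfl⟩ := Finset.mem_image.1 hχ
  set N := Subgroup.normalizer (T : Set (Cfsg.Sz F m))
  refine Eq.trans ?_ (card_cosets hG.tor)
  rw [← Finset.card_univ]
  symm
  refine Finset.card_bij (fun (x : ↥N ⧸ T.subgroupOf N) _ => ⟨tw θ'.1 x.out, fun z => θ'.2 (by
    have := congrArg (fun φ => tw φ x.out⁻¹) z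
    rw [show tw (tw θ'.1 x.out) x.out⁻¹ = θ'.1 by rw [← tw_mul, inv_mul_cancel, tw_one],
      show tw (1 : ↥T →* ℂˣ) x.out⁻¹ = 1 from MonoidHom.ext fun _ => rfl] at this
    exact this)⟩) ?_ ?_ ?_
  · intro x _
    refine Finset.mem_filter.2 ⟨Finset.mem_univ _, Subtype.ext (funext fun g => ?_)⟩
    show fam T p (tw θ'.1 x.out) g = fam T p θ'.1 g
    rw [fam, fam, tw_indT hG.tor.isTorus]
  · intro x _ y _ hxy
    have h1 : tw θ'.1 x.out = tw θ'.1 y.out := congrArg Subtype.val hxy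
    have h2 : tw θ'.1 (x.out⁻¹ * y.out) = θ'.1 := by
      rw [tw_mul, ← h1, ← tw_mul, inv_mul_cancel, tw_one]
    rw [← QuotientGroup.out_eq' x, ← QuotientGroup.out_eq' y, QuotientGroup.eq]
    exact (tw_eq_self_iff hG.tor.isTorus θ'.2 _).1 h2
  · intro θ hθ
    have he : fam T p θ.1 = fam T p θ'.1 := congrArg Subtype.val (Finset.mem_filter.1 hθ).2
    have h1 := fam_inner h hm hF hG (θ := θ.1) θ'.2
    rw [he, fam_inner h hm hF hG θ'.2, if_pos ⟨1, tw_one θ'.1⟩] at h1
    obtain ⟨n, hn⟩ : ∃ n, tw θ'.1 n = θ.1 := by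
      by_contra hc
      rw [if_neg hc] at h1
      exact one_ne_zero h1
    refine ⟨QuotientGroup.mk n, Finset.mem_univ _, Subtype.ext ?_⟩
    show tw θ'.1 (QuotientGroup.mk n : ↥N ⧸ T.subgroupOf N).out = θ.1
    obtain ⟨t, ht⟩ := QuotientGroup.mk_out_eq_mul (T.subgroupOf N) n
    rw [ht, tw_mul, (tw_eq_self_iff hG.tor.isTorus θ'.2 _).2 t.2, hn]

include hF in
/-- The number of members of a family. -/
theorem card_image (hG : Good h T a e p (TP := TP) (TM := TM)) :
    Nat.card (Set.range (famIrr h hm hF hG)) * e = a - 1 := by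
  letI : CommGroup ↥T :=
    { (inferInstance : Group ↥T) with mul_comm := fun x y => Subtype.ext (hG.tor.isTorus.comm x x.2 y y.2) }
  have hc : Nat.card (↥T →* ℂˣ) = a := by
    rw [CommGroup.card_monoidHom_of_hasEnoughRootsOfUnity, hG.tor.card]
  haveI : Finite (↥T →* ℂˣ) := Nat.finite_of_card_ne_zero (by rw [hc, ← hG.tor.card]; exact Nat.card_pos.ne')
  haveI := Fintype.ofFinite (↥T →* ℂˣ)
  have hdual : Fintype.card {θ : ↥T →* ℂˣ // θ ≠ 1} = a - 1 := by
    rw [Fintype.card_subtype_compl, Fintype.card_subtype_eq, ← Nat.card_eq_fintype_card, hc]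
  rw [Nat.card_coe_set_eq, ← Set.image_univ, ← Finset.coe_univ, ← Finset.coe_image, Set.ncard_coe_finset,
    ← hdual, ← Finset.card_univ, Finset.card_eq_sum_card_image (famIrr h hm hF hG) Finset.univ,
    Finset.sum_congr rfl (g := fun _ => e) ?_, Finset.sum_const, smul_eq_mul]
  exact fun χ hχ => card_fibre h hm hF hG χ hχ

include hF in
/-- A sum over the members of a family, through the characters of the torus. -/
theorem sum_image (hG : Good h T a e p (TP := TP) (TM := TM)) [Fintype {θ : ↥T →* ℂˣ // θ ≠ 1}]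
    [Fintype (Cfsg.IrrCharacter (Cfsg.Sz F m))] (f : Cfsg.IrrCharacter (Cfsg.Sz F m) → ℂ) :
    (e : ℂ) * ∑ χ ∈ Finset.univ.filter (fun χ => χ ∈ Set.range (famIrr h hm hF hG)), f χ =
      ∑ θ : {θ : ↥T →* ℂˣ // θ ≠ 1}, f (famIrr h hm hF hG θ) := by
  have hset : Finset.univ.filter (fun χ => χ ∈ Set.range (famIrr h hm hF hG)) =
      Finset.univ.image (famIrr h hm hF hG) := by
    ext χ; simp
  rw [hset, Finset.mul_sum, ← Finset.sum_fiberwise_of_maps_to (t := Finset.univ.image (famIrr h hm hF hG))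
    (fun θ hθ => Finset.mem_image_of_mem (famIrr h hm hF hG) hθ) (fun θ => f (famIrr h hm hF hG θ))]
  refine Finset.sum_congr rfl fun χ hχ => ?_
  rw [Finset.sum_congr rfl fun θ hθ => congrArg f (Finset.mem_filter.1 hθ).2, Finset.sum_const,
    card_fibre h hm hF hG χ hχ, nsmul_eq_mul]

end Cfsg.Agent.Lib.SzChars.Family
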