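import Cfsg.Agent.Lib.SzChars.TISum
import Cfsg.Agent.Lib.SzTori.Count
import Cfsg.Agent.Lib.LieTwisted.SuzukiSylow
import Cfsg.Agent.Lib.Brauer.Characterization
import Cfsg.Agent.Lib.Characters.Basic

/-!
# The four kinds of elements of a Suzuki group

Every non-trivial element is conjugate into the root group, the split torus, or one of the two
fixed-point-free tori; summation of class functions and a criterion for generalized characters.
-/

set_option autoImplicit false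
set_option linter.unusedSectionVars false

namespace Cfsg.Agent.Lib.SzChars.Kinds

open Cfsg.Agent.Lib.LieTwisted.Suzuki Cfsg.Agent.Lib.SzElements.Basic
open Cfsg.Agent.Lib.SzTori
open Cfsg.Agent.Lib.SzChars.TISum
open scoped ComplexConjugate Classical

/-- `T` is a torus of order `a` whose normaliser has order `e * a`. -/
structure Tor {G : Type*} [Group G] (T : Subgroup G) (a e : ℕ) : Prop where
  isTorus : IsTorus T
  card : Nat.card T = a
  normalizer : Nat.card (Subgroup.normalizer (T : Set G)) = e * a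

variable {F : Type*} [Field F] [Fintype F] {m : ℕ}

/-- The subgroups of the partition. -/
structure Frame (h : IsSzField F m) (TP TM : Subgroup (Cfsg.Sz F m)) : Prop where
  plus : Tor TP (Fintype.card F + 2 ^ (m + 1) + 1) 4
  minus : Tor TM (Fintype.card F - 2 ^ (m + 1) + 1) 4
  cover : ∀ g : Cfsg.Sz F m, g ≠ 1 → g ∈ conjSet (unip h) ∨ g ∈ conjSet (dS h).range ∨
    g ∈ conjSet TP ∨ g ∈ conjSet TM

variable (h : IsSzField F m) (hm : 1 ≤ m)

include h hm

theorem r_facts : (2 ^ (m + 1)) ^ 2 = 2 * Fintype.card F ∧ 2 ^ (m + 1) < Fintype.card F ∧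
    Even (2 ^ (m + 1)) ∧ Even (Fintype.card F) ∧ 8 ≤ Fintype.card F := by
  refine ⟨?_, ?_, Nat.even_pow.2 ⟨even_two, by omega⟩, (card_facts h hm).2, ?_⟩
  · rw [h.card, ← pow_mul, ← pow_succ']; ring_nf
  · rw [h.card]; exact Nat.pow_lt_pow_right (by norm_num) (by omega)
  · rw [h.card]
    calc 8 = 2 ^ 3 := by norm_num
      _ ≤ _ := Nat.pow_le_pow_right (by norm_num) (by omega)

theorem split_tor : Tor (dS h).range (Fintype.card F - 1) 2 where
  isTorus :=
    { comm := by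
        rintro _ ⟨a, rfl⟩ _ ⟨b, rfl⟩
        rw [← map_mul, ← map_mul, mul_comm]
      cent := by
        rintro _ ⟨e, rfl⟩ h1
        exact centralizer_dS h hm fun z => h1 (by rw [z, map_one]) }
  card := card_range_dS h hm
  normalizer := card_normalizer_torus h hm

theorem exists_frame : ∃ TP TM, Frame h TP TM := by
  obtain ⟨g₁, g₂, h1, h2, hcov, hab, hsum, hN⟩ := two_classes h hm
  set q := Fintype.card F
  obtain ⟨hr2, hrq, -, -, -⟩ := r_facts h hm
  set r := 2 ^ (m + 1)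
  have htor : ∀ g : Cfsg.Sz F m, InE g → Tor (cen g) (Nat.card (cen g)) 4 := fun g hg =>
    { isTorus :=
        { comm := fun a ha b hb => comm_of_cyclic (torus_cyclic h hm hg) ha hb
          cent := fun c hc hc1 => torus_eq h hm hg hc hc1 }
      card := rfl
      normalizer := hN g hg }
  have hcover : ∀ g : Cfsg.Sz F m, g ≠ 1 → g ∈ conjSet (unip h) ∨ g ∈ conjSet (dS h).range ∨
      g ∈ conjSet (cen g₁) ∨ g ∈ conjSet (cen g₂) := by
    intro g hg
    by_cases hf : HasFix g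
    · obtain ⟨x, hx | ⟨e, he, hx⟩⟩ := fix_cases h hm hf
      · refine Or.inl ⟨x, x⁻¹ * g * x, hx, fun z => hg ?_, by group⟩
        simpa [mul_assoc] using congrArg (fun w => x * w * x⁻¹) z
      · refine Or.inr (Or.inl ⟨x, dS h e, ⟨e, rfl⟩, fun z => he (h.dS_injective (z.trans (map_one _).symm)), ?_⟩)
        rw [← hx]; group
    · exact Or.inr (Or.inr (hcov g (inE_of_not_fix h hm hf)))
  have key : (Nat.card (cen g₁) = q + r + 1 ∧ Nat.card (cen g₂) = q - r + 1) ∨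
      (Nat.card (cen g₁) = q - r + 1 ∧ Nat.card (cen g₂) = q + r + 1) := by
    set a := Nat.card (cen g₁)
    set b := Nat.card (cen g₂)
    zify at hab hsum hr2
    have : ((a : ℤ) - (q + r + 1)) * ((a : ℤ) - (q - r + 1)) = 0 := by
      linear_combination -hab + (a : ℤ) * hsum - hr2
    rcases mul_eq_zero.1 this with z | z <;> omega
  rcases key with ⟨e1, e2⟩ | ⟨e1, e2⟩
  · exact ⟨cen g₁, cen g₂, e1 ▸ htor g₁ h1, e2 ▸ htor g₂ h2, hcover⟩
  · exact ⟨cen g₂, cen g₁, e2 ▸ htor g₂ h2, e1 ▸ htor g₁ h1, fun g hg => by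
      rcases hcover g hg with z | z | z | z <;> simp [z]⟩

theorem card_normalizer_unip :
    Nat.card (Subgroup.normalizer (unip h : Set (Cfsg.Sz F m))) =
      Fintype.card F ^ 2 * (Fintype.card F - 1) := by
  rw [h.normalizer_unip hm, h.card_stabilizer hm]

omit hm in
theorem pow_four_unip {g : Cfsg.Sz F m} (hm : 1 ≤ m) (hg : g ∈ conjSet (unip h)) : g ^ 4 = 1 := by
  obtain ⟨x, c, hc, -, rfl⟩ := hg
  rw [conj_pow, pow_four_of_mem h hm hc, mul_one, mul_inv_cancel]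

theorem pow_four_tor {T : Subgroup (Cfsg.Sz F m)} {a e : ℕ} (hT : Tor T a e) (ha : Odd a)
    {g : Cfsg.Sz F m} (hg : g ∈ conjSet T) : g ^ 4 ≠ 1 := by
  obtain ⟨x, c, hc, hc1, rfl⟩ := hg
  rw [conj_pow, Ne, conj_eq_one_iff]
  intro h4
  have hk : c ^ a = 1 := by
    rw [← hT.card]
    exact congrArg Subtype.val (pow_card_eq_one' (x := (⟨c, hc⟩ : T)))
  have h2 : c ^ Nat.gcd a 4 = 1 := pow_gcd_eq_one.2 ⟨hk, h4⟩
  have hco : Nat.gcd a (2 ^ 2) = 1 :=
    Nat.Coprime.pow_right 2 (Nat.prime_two.coprime_iff_not_dvd.2 (fun z => by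
      obtain ⟨k, rfl⟩ := ha; omega)).symm
  rw [show Nat.gcd a 4 = 1 from hco, pow_one] at h2
  exact hc1 h2

omit h hm in
theorem cen_card_tor {G : Type*} [Group G] {T : Subgroup G} {a e : ℕ} (hT : Tor T a e)
    {g : G} (hg : g ∈ conjSet T) : Nat.card (Subgroup.centralizer ({g} : Set G)) = a := by
  obtain ⟨x, c, hc, hc1, rfl⟩ := hg
  rw [centralizer_conj, hT.isTorus.cent c hc hc1,
    Subgroup.card_map_of_injective (MulAut.conj x).injective, hT.card]

theorem odd_facts :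
    Odd (Fintype.card F - 1) ∧ Odd (Fintype.card F + 2 ^ (m + 1) + 1) ∧
      Odd (Fintype.card F - 2 ^ (m + 1) + 1) := by
  obtain ⟨-, hlt, hr, hq, h8⟩ := r_facts h hm
  obtain ⟨j, hj⟩ := hr
  obtain ⟨k, hk⟩ := hq
  exact ⟨⟨k - 1, by omega⟩, ⟨k + j, by omega⟩, ⟨k - j, by omega⟩⟩

theorem torus_ne :
    Fintype.card F - 1 ≠ Fintype.card F + 2 ^ (m + 1) + 1 ∧
    Fintype.card F - 1 ≠ Fintype.card F - 2 ^ (m + 1) + 1 ∧
    Fintype.card F + 2 ^ (m + 1) + 1 ≠ Fintype.card F - 2 ^ (m + 1) + 1 := by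
  obtain ⟨-, hlt, -, -, h8⟩ := r_facts h hm
  have : 4 ≤ 2 ^ (m + 1) := by
    calc 4 = 2 ^ 2 := by norm_num
      _ ≤ _ := Nat.pow_le_pow_right (by norm_num) (by omega)
  omega

/-- A sum of a class function over the group. -/
theorem sum_classFun {TP TM : Subgroup (Cfsg.Sz F m)} (hF : Frame h TP TM) [Fintype (Cfsg.Sz F m)]
    {φ : Cfsg.Sz F m → ℂ} (hφ : Cfsg.IsClassFunction (Cfsg.Sz F m) φ) :
    ∑ g : Cfsg.Sz F m, φ g = φ 1 +
      ((Fintype.card F : ℂ) ^ 2 + 1) *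
        (∑ c ∈ Finset.univ.filter (fun c => c ∈ unip h ∧ c ≠ 1), φ c) +
      (Fintype.card F : ℂ) ^ 2 * ((Fintype.card F : ℂ) ^ 2 + 1) / 2 *
        (∑ c ∈ Finset.univ.filter (fun c => c ∈ (dS h).range ∧ c ≠ 1), φ c) +
      (Fintype.card F : ℂ) ^ 2 * ((Fintype.card F : ℂ) - 1) *
          ((Fintype.card F : ℂ) - 2 ^ (m + 1) + 1) / 4 *
        (∑ c ∈ Finset.univ.filter (fun c => c ∈ TP ∧ c ≠ 1), φ c) +
      (Fintype.card F : ℂ) ^ 2 * ((Fintype.card F : ℂ) - 1) *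
          ((Fintype.card F : ℂ) + 2 ^ (m + 1) + 1) / 4 *
        (∑ c ∈ Finset.univ.filter (fun c => c ∈ TM ∧ c ≠ 1), φ c) := by
  obtain ⟨o0, o1, o2⟩ := odd_facts h hm
  obtain ⟨n0, n1, n2⟩ := torus_ne h hm
  obtain ⟨hr2, hlt, -, -, h8⟩ := r_facts h hm
  have hS := split_tor h hm
  set U := Finset.univ.filter (fun y => y ∈ conjSet (unip h))
  set C := Finset.univ.filter (fun y => y ∈ conjSet (dS h).range)
  set P := Finset.univ.filter (fun y => y ∈ conjSet TP)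
  set M := Finset.univ.filter (fun y => y ∈ conjSet TM)
  have hd : ∀ {a b : ℕ} {T T' : Subgroup (Cfsg.Sz F m)} {e e' : ℕ}, Tor T a e → Tor T' b e' → a ≠ b →
      Disjoint (Finset.univ.filter (fun y => y ∈ conjSet T)) (Finset.univ.filter (fun y => y ∈ conjSet T')) := by
    intro a b T T' e e' hT hT' hne
    refine Finset.disjoint_left.2 fun y hy hy' => hne ?_
    rw [← cen_card_tor hT (Finset.mem_filter.1 hy).2, ← cen_card_tor hT' (Finset.mem_filter.1 hy').2]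
  have hdU : ∀ {a : ℕ} {T : Subgroup (Cfsg.Sz F m)} {e : ℕ}, Tor T a e → Odd a →
      Disjoint U (Finset.univ.filter (fun y => y ∈ conjSet T)) := by
    intro a T e hT ha
    refine Finset.disjoint_left.2 fun y hy hy' => ?_
    exact pow_four_tor h hm hT ha (Finset.mem_filter.1 hy').2 (pow_four_unip h hm (Finset.mem_filter.1 hy).2)
  have huniv : (Finset.univ : Finset (Cfsg.Sz F m)) = {1} ∪ (U ∪ C ∪ P ∪ M) := by
    ext g
    simp only [U, C, P, M, Finset.mem_univ, true_iff, Finset.mem_union, Finset.mem_singleton,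
      Finset.mem_filter, true_and]
    by_cases hg : g = 1
    · exact Or.inl hg
    · rcases hF.cover g hg with z | z | z | z <;> tauto
  have h1 : Disjoint {1} (U ∪ C ∪ P ∪ M) := by
    refine Finset.disjoint_singleton_left.2 ?_
    simp only [U, C, P, M, Finset.mem_union, Finset.mem_filter, Finset.mem_univ, true_and, not_or]
    refine ⟨⟨⟨?_, ?_⟩, ?_⟩, ?_⟩ <;> rintro ⟨x, c, -, hc1, e⟩ <;> exact hc1 (conj_eq_one_iff.1 e)
  conv_lhs => rw [huniv]
  rw [Finset.sum_union h1, Finset.sum_singleton,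
    Finset.sum_union (Finset.disjoint_union_left.2 ⟨Finset.disjoint_union_left.2
      ⟨hdU hF.minus o2, hd hS hF.minus n1⟩, hd hF.plus hF.minus n2⟩),
    Finset.sum_union (Finset.disjoint_union_left.2 ⟨hdU hF.plus o1, hd hS hF.plus n0⟩),
    Finset.sum_union (hdU hS o0)]
  have eG : (Nat.card (Cfsg.Sz F m) : ℂ) = (Fintype.card F : ℂ) ^ 2 * ((Fintype.card F : ℂ) ^ 2 + 1) *
      ((Fintype.card F : ℂ) - 1) := by
    rw [h.card_group hm]; push_cast [Nat.cast_sub (show 1 ≤ Fintype.card F by omega)]; ring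
  have tU : (∑ y ∈ U, φ y) * (Nat.card (Subgroup.normalizer ((unip h : Subgroup (Cfsg.Sz F m)) : Set (Cfsg.Sz F m))) : ℂ) =
      (Nat.card (Cfsg.Sz F m) : ℂ) * ∑ c ∈ Finset.univ.filter (fun c => c ∈ unip h ∧ c ≠ 1), φ c := by
    convert sum_conjSet (unip h : Subgroup (Cfsg.Sz F m)) (ti_unip h hm) hφ
  have tC : (∑ y ∈ C, φ y) * (Nat.card (Subgroup.normalizer (((dS h).range : Subgroup (Cfsg.Sz F m)) : Set (Cfsg.Sz F m))) : ℂ) =
      (Nat.card (Cfsg.Sz F m) : ℂ) * ∑ c ∈ Finset.univ.filter (fun c => c ∈ (dS h).range ∧ c ≠ 1), φ c := by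
    convert sum_conjSet ((dS h).range : Subgroup (Cfsg.Sz F m)) hS.isTorus.ti hφ
  have tP : (∑ y ∈ P, φ y) * (Nat.card (Subgroup.normalizer ((TP : Subgroup (Cfsg.Sz F m)) : Set (Cfsg.Sz F m))) : ℂ) =
      (Nat.card (Cfsg.Sz F m) : ℂ) * ∑ c ∈ Finset.univ.filter (fun c => c ∈ TP ∧ c ≠ 1), φ c := by
    convert sum_conjSet (TP : Subgroup (Cfsg.Sz F m)) hF.plus.isTorus.ti hφ
  have tM : (∑ y ∈ M, φ y) * (Nat.card (Subgroup.normalizer ((TM : Subgroup (Cfsg.Sz F m)) : Set (Cfsg.Sz F m))) : ℂ) =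
      (Nat.card (Cfsg.Sz F m) : ℂ) * ∑ c ∈ Finset.univ.filter (fun c => c ∈ TM ∧ c ≠ 1), φ c := by
    convert sum_conjSet (TM : Subgroup (Cfsg.Sz F m)) hF.minus.isTorus.ti hφ
  rw [card_normalizer_unip h hm, eG] at tU
  rw [hS.normalizer, eG] at tC
  rw [hF.plus.normalizer, eG] at tP
  rw [hF.minus.normalizer, eG] at tM
  push_cast [Nat.cast_sub hlt.le, Nat.cast_sub (show 1 ≤ Fintype.card F by omega)] at tU tC tP tM
  have hr2' : ((2 : ℂ) ^ (m + 1)) ^ 2 = 2 * (Fintype.card F : ℂ) := by exact_mod_cast hr2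
  set q : ℂ := (Fintype.card F : ℂ)
  set r : ℂ := (2 : ℂ) ^ (m + 1)
  have hq0 : q ≠ 0 := Nat.cast_ne_zero.2 (by omega)
  have hq1 : q - 1 ≠ 0 := by
    rw [sub_ne_zero]; exact Nat.cast_ne_one.2 (by omega)
  have hP : q + r + 1 ≠ 0 := by
    have : (Fintype.card F + 2 ^ (m + 1) + 1 : ℕ) ≠ 0 := Nat.succ_ne_zero _
    have := (Nat.cast_ne_zero (R := ℂ)).2 this
    push_cast at this
    exact this
  have hM : q - r + 1 ≠ 0 := by
    have : (Fintype.card F - 2 ^ (m + 1) + 1 : ℕ) ≠ 0 := by omega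
    have := (Nat.cast_ne_zero (R := ℂ)).2 this
    push_cast [Nat.cast_sub hlt.le] at this
    exact this
  have eU : ∑ y ∈ U, φ y = (q ^ 2 + 1) * ∑ c ∈ Finset.univ.filter (fun c => c ∈ unip h ∧ c ≠ 1), φ c := by
    refine mul_right_cancel₀ (mul_ne_zero (pow_ne_zero 2 hq0) hq1) ?_
    linear_combination tU
  have eC : ∑ y ∈ C, φ y = q ^ 2 * (q ^ 2 + 1) / 2 *
      ∑ c ∈ Finset.univ.filter (fun c => c ∈ (dS h).range ∧ c ≠ 1), φ c := by
    refine mul_right_cancel₀ (mul_ne_zero (two_ne_zero' ℂ) hq1) ?_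
    linear_combination tC
  have eP : ∑ y ∈ P, φ y = q ^ 2 * (q - 1) * (q - r + 1) / 4 *
      ∑ c ∈ Finset.univ.filter (fun c => c ∈ TP ∧ c ≠ 1), φ c := by
    refine mul_right_cancel₀ (mul_ne_zero (show (4 : ℂ) ≠ 0 by norm_num) hP) ?_
    linear_combination tP + q ^ 2 * (q - 1) *
      (∑ c ∈ Finset.univ.filter (fun c => c ∈ TP ∧ c ≠ 1), φ c) * hr2'
  have eM : ∑ y ∈ M, φ y = q ^ 2 * (q - 1) * (q + r + 1) / 4 *
      ∑ c ∈ Finset.univ.filter (fun c => c ∈ TM ∧ c ≠ 1), φ c := by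
    refine mul_right_cancel₀ (mul_ne_zero (show (4 : ℂ) ≠ 0 by norm_num) hM) ?_
    linear_combination tM + q ^ 2 * (q - 1) *
      (∑ c ∈ Finset.univ.filter (fun c => c ∈ TM ∧ c ≠ 1), φ c) * hr2'
  rw [eU, eC, eP, eM]
  ring

/-- A class function restricting to generalized characters on the subgroups of the partition is
one. -/
theorem isGeneralized_of_restrict {TP TM : Subgroup (Cfsg.Sz F m)} (hF : Frame h TP TM)
    [Fintype (Cfsg.Sz F m)]
    {f : Cfsg.Sz F m → ℂ} (hf : Cfsg.IsClassFunction (Cfsg.Sz F m) f)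
    (hres : ∀ T : Subgroup (Cfsg.Sz F m), T = unip h ∨ T = (dS h).range ∨ T = TP ∨ T = TM →
      Cfsg.IsGeneralizedCharacter T (fun c : T => f c)) :
    Cfsg.IsGeneralizedCharacter (Cfsg.Sz F m) f := by
  refine Brauer.Characterization.isGeneralized_of_mem
    (Brauer.Characterization.mem_of_elementary ℤ hf fun E _ p hp hE => ?_)
  refine Submodule.span_mono ?_ (Brauer.Monomial.genChar_mem (θ := fun e : E => f (e : Cfsg.Sz F m)) ?_)
  · rintro _ ⟨K, -, l, rfl⟩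
    exact ⟨K, trivial, l, rfl⟩
  have hkey : ∃ (T : Subgroup (Cfsg.Sz F m)) (x : Cfsg.Sz F m),
      (T = unip h ∨ T = (dS h).range ∨ T = TP ∨ T = TM) ∧ ∀ e ∈ E, x⁻¹ * e * x ∈ T := by
    by_cases hE1 : E = ⊥
    · refine ⟨unip h, 1, Or.inl rfl, fun e he => ?_⟩
      rw [hE1, Subgroup.mem_bot] at he
      rw [he, mul_one, inv_mul_cancel]
      exact one_mem _
    haveI := Brauer.Monomial.isNilpotent_of_elementary hp hE
    haveI : Nontrivial E := (Subgroup.nontrivial_iff_ne_bot E).2 hE1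
    haveI : Nontrivial (Subgroup.center E) := (Subgroup.nontrivial_iff_ne_bot _).2 fun hb => by
      have := Brauer.Monomial.eq_bot_of_inf_center (N := (⊤ : Subgroup E)) (by rw [top_inf_eq]; exact hb)
      exact top_ne_bot this
    obtain ⟨z, hz1⟩ := exists_ne (1 : Subgroup.center E)
    have hz1' : ((z : E) : Cfsg.Sz F m) ≠ 1 := fun e => hz1 (Subtype.ext (Subtype.ext e))
    have hEz : ∀ e ∈ E, (e : Cfsg.Sz F m) * ((z : E) : Cfsg.Sz F m) = ((z : E) : Cfsg.Sz F m) * e :=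
      fun e he => congrArg Subtype.val (Subgroup.mem_center_iff.1 z.2 ⟨e, he⟩)
    have main : ∀ T : Subgroup (Cfsg.Sz F m), (∀ c ∈ T, c ≠ 1 → Subgroup.centralizer ({c} : Set _) ≤ T) →
        ((z : E) : Cfsg.Sz F m) ∈ conjSet T → ∃ x : Cfsg.Sz F m, ∀ e ∈ E, x⁻¹ * e * x ∈ T := by
      rintro T hT ⟨x, c, hc, hc1, hx⟩
      refine ⟨x, fun e he => hT c hc hc1 ?_⟩
      rw [Subgroup.mem_centralizer_singleton_iff]
      have := hEz e he
      rw [← hx] at this
      calc x⁻¹ * e * x * c = x⁻¹ * (e * (x * c * x⁻¹)) * x := by group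
        _ = _ := by rw [this]; group
    rcases hF.cover _ hz1' with hc | hc | hc | hc
    · obtain ⟨x, hx⟩ := main _ (fun c hc hc1 => centralizer_unip_le h hm hc hc1) hc
      exact ⟨_, x, Or.inl rfl, hx⟩
    · obtain ⟨x, hx⟩ := main _ (fun c hc hc1 => ((split_tor h hm).isTorus.cent c hc hc1).le) hc
      exact ⟨_, x, Or.inr (Or.inl rfl), hx⟩
    · obtain ⟨x, hx⟩ := main _ (fun c hc hc1 => (hF.plus.isTorus.cent c hc hc1).le) hc
      exact ⟨_, x, Or.inr (Or.inr (Or.inl rfl)), hx⟩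
    · obtain ⟨x, hx⟩ := main _ (fun c hc hc1 => (hF.minus.isTorus.cent c hc hc1).le) hc
      exact ⟨_, x, Or.inr (Or.inr (Or.inr rfl)), hx⟩
  obtain ⟨T, x, hT, hx⟩ := hkey
  let ι : E →* T :=
    { toFun := fun e => ⟨x⁻¹ * e * x, hx e e.2⟩
      map_one' := Subtype.ext (by simp)
      map_mul' := fun a b => Subtype.ext (by simp [mul_assoc]) }
  obtain ⟨χ, ψ, hχ, hψ, he⟩ := hres T hT
  refine ⟨χ ∘ ι, ψ ∘ ι, Cfsg.Agent.Lib.Characters.Basic.isCharacter_comp ι hχ, Cfsg.Agent.Lib.Characters.Basic.isCharacter_comp ι hψ, ?_⟩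
  funext e
  show f (e : Cfsg.Sz F m) = (χ - ψ) (ι e)
  rw [← he]
  show f e = f (x⁻¹ * e * x)
  have := hf (e : Cfsg.Sz F m) x⁻¹
  rw [inv_inv] at this
  exact this.symm

/-- The sum over the non-trivial elements of the root group. -/
theorem sum_unip [Fintype (Cfsg.Sz F m)] {φ : Cfsg.Sz F m → ℂ} {u₂ u₄ : ℂ}
    (h2 : ∀ c ∈ unip h, c ≠ 1 → c ^ 2 = 1 → φ c = u₂) (h4 : ∀ c ∈ unip h, c ^ 2 ≠ 1 → φ c = u₄) :
    ∑ c ∈ Finset.univ.filter (fun c => c ∈ unip h ∧ c ≠ 1), φ c =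
      ((Fintype.card F : ℂ) - 1) * u₂ + ((Fintype.card F : ℂ) ^ 2 - Fintype.card F) * u₄ := by
  have h1 : ∀ p ∈ (Finset.univ : Finset (F × F)).erase (0, 0),
      uS h p.1 p.2 ≠ 1 := fun p hp hone => (Finset.mem_erase.1 hp).1 (by
    rw [← h.uS_zero] at hone
    exact Prod.ext (h.uS_coords_inj hone).1 (h.uS_coords_inj hone).2)
  have hbij : ∑ c ∈ Finset.univ.filter (fun c => c ∈ unip h ∧ c ≠ 1), φ c =
      ∑ p ∈ (Finset.univ : Finset (F × F)).erase (0, 0), φ (uS h p.1 p.2) := by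
    symm
    refine Finset.sum_bij (fun p _ => uS h p.1 p.2) (fun p hp =>
      Finset.mem_filter.2 ⟨Finset.mem_univ _, h.uS_mem _ _, h1 p hp⟩) ?_ ?_ (fun _ _ => rfl)
    · intro p _ p' _ e
      exact Prod.ext (h.uS_coords_inj e).1 (h.uS_coords_inj e).2
    · intro c hc
      obtain ⟨⟨a, b, rfl⟩, hc1⟩ := (Finset.mem_filter.1 hc).2
      exact ⟨(a, b), Finset.mem_erase.2 ⟨fun z => hc1 (by cases z; exact h.uS_zero), Finset.mem_univ _⟩, rfl⟩
  let w : F → ℂ := fun a => if a = 0 then u₂ else u₄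
  have hw0 : w 0 = u₂ := if_pos rfl
  have hw1 : ∀ a ∈ (Finset.univ : Finset F).erase 0, w a = u₄ := fun a ha => if_neg (Finset.mem_erase.1 ha).1
  have hval : ∀ p ∈ (Finset.univ : Finset (F × F)).erase (0, 0), φ (uS h p.1 p.2) = w p.1 := by
    intro p hp
    by_cases hp0 : p.1 = 0
    · rw [show w p.1 = u₂ from if_pos hp0]
      refine h2 _ (h.uS_mem _ _) (h1 p hp) ?_
      rw [hp0, h.uS_sq, sg_zero, zero_mul, h.uS_zero]
    · rw [show w p.1 = u₄ from if_neg hp0]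
      exact h4 _ (h.uS_mem _ _) fun e => hp0 (eq_zero_of_sq h e)
  rw [hbij, Finset.sum_congr rfl hval, Finset.sum_erase_eq_sub (Finset.mem_univ _), Fintype.sum_prod_type]
  simp only [Finset.sum_const, Finset.card_univ, nsmul_eq_mul]
  rw [← Finset.mul_sum, ← Finset.add_sum_erase _ _ (Finset.mem_univ (0 : F)), hw0,
    Finset.sum_congr rfl hw1, Finset.sum_const, Finset.card_erase_of_mem (Finset.mem_univ _),
    Finset.card_univ, nsmul_eq_mul, Nat.cast_sub Fintype.card_pos]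
  push_cast
  ring

end Cfsg.Agent.Lib.SzChars.Kinds
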