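import Cfsg.Agent.Lib.SzTori.TICount
import Cfsg.Prelude.Def_Characters
import Mathlib

/-!
# Sums over the conjugates of a trivial intersection subgroup

For a class function `φ` and a TI subgroup `T` the sum of `φ` over the conjugates of `T ∖ 1` is
`|G : N(T)|` times its sum over `T ∖ 1`.  For an abelian `T` containing the centraliser of each of
its non-trivial elements, the induced characters of `T` satisfy the usual orthogonality on `T`.
-/

set_option autoImplicit false
set_option linter.unusedSectionVars false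

namespace Cfsg.Agent.Lib.SzChars.TISum

open Cfsg.Agent.Lib.SzTori (conjSet)
open scoped ComplexConjugate Classical

universe u

variable {G : Type u} [Group G] [Fintype G]

/-- Sum over the conjugates of a TI set. -/
theorem sum_conjSet (T : Subgroup G)
    (hTI : ∀ g c, c ∈ T → c ≠ 1 → g * c * g⁻¹ ∈ T → g ∈ Subgroup.normalizer (T : Set G))
    {φ : G → ℂ} (hφ : Cfsg.IsClassFunction G φ) :
    (∑ y ∈ Finset.univ.filter (fun y => y ∈ conjSet T), φ y) *
        (Nat.card (Subgroup.normalizer (T : Set G)) : ℂ) =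
      (Nat.card G : ℂ) * ∑ c ∈ Finset.univ.filter (fun c => c ∈ T ∧ c ≠ 1), φ c := by
  set N := Subgroup.normalizer (T : Set G)
  set D := Finset.univ.filter (fun c => c ∈ T ∧ c ≠ 1)
  set S := Finset.univ.filter (fun y => y ∈ conjSet T)
  have hmaps : ∀ p ∈ (Finset.univ : Finset G) ×ˢ D, p.1 * p.2 * p.1⁻¹ ∈ S := by
    rintro ⟨x, c⟩ hp
    simp only [Finset.mem_product, Finset.mem_univ, true_and, D, Finset.mem_filter] at hp
    simp only [S, Finset.mem_filter, Finset.mem_univ, true_and]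
    exact ⟨x, c, hp.1, hp.2, rfl⟩
  have hfib : ∀ y ∈ S,
      (((Finset.univ : Finset G) ×ˢ D).filter (fun p => p.1 * p.2 * p.1⁻¹ = y)).card = Nat.card N := by
    intro y hy
    obtain ⟨x₀, c₀, hc₀, h₀, rfl⟩ := (Finset.mem_filter.1 hy).2
    symm
    rw [Nat.card_eq_fintype_card, ← Finset.card_univ]
    refine Finset.card_bij (fun (n : N) _ => (x₀ * (n : G), (n : G)⁻¹ * c₀ * n)) ?_ ?_ ?_
    · intro n _
      simp only [Finset.mem_filter, Finset.mem_product, Finset.mem_univ, true_and, D]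
      refine ⟨⟨?_, fun z => h₀ ?_⟩, by group⟩
      · have := (Subgroup.mem_normalizer_iff.1 (N.inv_mem n.2) c₀).1 hc₀
        rwa [inv_inv] at this
      · simpa [mul_assoc] using congrArg (fun w => (n : G) * w * (n : G)⁻¹) z
    · intro a _ b _ e
      exact Subtype.ext (mul_left_cancel (congrArg Prod.fst e))
    · rintro ⟨x, c⟩ hp
      simp only [Finset.mem_filter, Finset.mem_product, Finset.mem_univ, true_and, D] at hp
      obtain ⟨⟨hc, hc1⟩, he⟩ := hp
      have hn : x₀⁻¹ * x ∈ N := by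
        refine hTI _ c hc hc1 ?_
        rwa [show x₀⁻¹ * x * c * (x₀⁻¹ * x)⁻¹ = x₀⁻¹ * (x * c * x⁻¹) * x₀ by group, he,
          show x₀⁻¹ * (x₀ * c₀ * x₀⁻¹) * x₀ = c₀ by group]
      refine ⟨⟨_, hn⟩, Finset.mem_univ _, Prod.ext (mul_inv_cancel_left _ _) ?_⟩
      show (x₀⁻¹ * x)⁻¹ * c₀ * (x₀⁻¹ * x) = c
      rw [show (x₀⁻¹ * x)⁻¹ * c₀ * (x₀⁻¹ * x) = x⁻¹ * (x₀ * c₀ * x₀⁻¹) * x by group, ← he]
      group
  have h1 : ∑ p ∈ (Finset.univ : Finset G) ×ˢ D, φ (p.1 * p.2 * p.1⁻¹) =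
      (Nat.card G : ℂ) * ∑ c ∈ D, φ c := by
    rw [Finset.sum_product, Finset.sum_congr rfl fun x _ => Finset.sum_congr rfl fun c _ => hφ c x,
      Finset.sum_const, Finset.card_univ, nsmul_eq_mul, Nat.card_eq_fintype_card]
  rw [← h1, ← Finset.sum_fiberwise_of_maps_to hmaps (fun p => φ (p.1 * p.2 * p.1⁻¹)),
    Finset.sum_mul]
  refine Finset.sum_congr rfl fun y hy => ?_
  rw [Finset.sum_congr rfl fun p hp => congrArg φ (Finset.mem_filter.1 hp).2, Finset.sum_const,
    hfib y hy, nsmul_eq_mul, mul_comm]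

/-- An abelian subgroup containing the centralisers of its non-trivial elements. -/
structure IsTorus (T : Subgroup G) : Prop where
  comm : ∀ a ∈ T, ∀ b ∈ T, a * b = b * a
  cent : ∀ c ∈ T, c ≠ 1 → Subgroup.centralizer ({c} : Set G) = T

theorem IsTorus.ti {T : Subgroup G} (hT : IsTorus T) :
    ∀ g c, c ∈ T → c ≠ 1 → g * c * g⁻¹ ∈ T → g ∈ Subgroup.normalizer (T : Set G) :=
  Cfsg.Agent.Lib.SzTori.ti_of_centralizer T hT.cent

variable {T : Subgroup G}

/-- The conjugate of a linear character by an element of the normaliser. -/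
noncomputable def tw (θ : ↥T →* ℂˣ) (n : ↥(Subgroup.normalizer (T : Set G))) : ↥T →* ℂˣ :=
  θ.comp
    { toFun := fun c => ⟨(n : G)⁻¹ * c * n, by
        have := (Subgroup.mem_normalizer_iff.1 (inv_mem n.2) (c : G)).1 c.2
        rwa [inv_inv] at this⟩
      map_one' := Subtype.ext (by simp)
      map_mul' := fun a b => Subtype.ext (by simp [mul_assoc]) }

theorem tw_apply (θ : ↥T →* ℂˣ) (n : ↥(Subgroup.normalizer (T : Set G))) (c : ↥T)
    (h : (n : G)⁻¹ * c * n ∈ T) : tw θ n c = θ ⟨(n : G)⁻¹ * c * n, h⟩ := rfl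

theorem tw_one (θ : ↥T →* ℂˣ) : tw θ 1 = θ :=
  MonoidHom.ext fun c => congrArg θ (Subtype.ext (by simp))

theorem tw_mul (θ : ↥T →* ℂˣ) (a b : ↥(Subgroup.normalizer (T : Set G))) :
    tw θ (a * b) = tw (tw θ b) a :=
  MonoidHom.ext fun c => congrArg θ (Subtype.ext (by simp [mul_assoc]))

theorem tw_eq_self_iff (hT : IsTorus T) {θ : ↥T →* ℂˣ} (hθ : θ ≠ 1)
    (n : ↥(Subgroup.normalizer (T : Set G))) : tw θ n = θ ↔ (n : G) ∈ T := by
  constructor
  · intro e
    by_contra hn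
    letI : CommGroup ↥T :=
      { (inferInstance : Group ↥T) with mul_comm := fun a b => Subtype.ext (hT.comm a a.2 b b.2) }
    let f : ↥T → ↥T := fun c => c⁻¹ * ⟨(n : G)⁻¹ * c * n, by
      have := (Subgroup.mem_normalizer_iff.1 (inv_mem n.2) (c : G)).1 c.2
      rwa [inv_inv] at this⟩
    have hinj : Function.Injective f := by
      intro a b hab
      by_contra hne
      have h1 : (a : G)⁻¹ * ((n : G)⁻¹ * a * n) = (b : G)⁻¹ * ((n : G)⁻¹ * b * n) := congrArg Subtype.val hab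
      have hd : (a : G) * (b : G)⁻¹ ≠ 1 := fun z => hne (Subtype.ext (mul_inv_eq_one.1 z))
      have hfix : (n : G)⁻¹ * ((a : G) * (b : G)⁻¹) * n = (a : G) * (b : G)⁻¹ := by
        have h2 : (n : G)⁻¹ * a * n = a * ((b : G)⁻¹ * ((n : G)⁻¹ * b * n)) := by
          rw [← h1, mul_inv_cancel_left]
        calc (n : G)⁻¹ * ((a : G) * (b : G)⁻¹) * n
            = ((n : G)⁻¹ * a * n) * ((n : G)⁻¹ * b * n)⁻¹ := by group
          _ = _ := by rw [h2]; group
      refine hn ((hT.cent _ (mul_mem a.2 (inv_mem b.2)) hd).le ?_)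
      rw [Subgroup.mem_centralizer_singleton_iff]
      conv_lhs => arg 2; rw [← hfix]
      group
    refine hθ (MonoidHom.ext fun d => ?_)
    obtain ⟨c, rfl⟩ := Finite.surjective_of_injective hinj d
    have := DFunLike.congr_fun e c
    have hm : (n : G)⁻¹ * c * n ∈ T := by
      have h0 := (Subgroup.mem_normalizer_iff.1 (inv_mem n.2) (c : G)).1 c.2
      rwa [inv_inv] at h0
    rw [tw_apply θ n c hm] at this
    rw [map_mul, map_inv, this, inv_mul_cancel, MonoidHom.one_apply]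
  · intro hn
    refine MonoidHom.ext fun c => congrArg θ (Subtype.ext ?_)
    show (n : G)⁻¹ * c * n = c
    rw [mul_assoc, hT.comm c c.2 n hn, inv_mul_cancel_left]

/-- `θ` as a complex function on `G`, zero off `T`. -/
noncomputable def ext0 (θ : ↥T →* ℂˣ) (g : G) : ℂ := if h : g ∈ T then (θ ⟨g, h⟩ : ℂ) else 0

/-- The induced character of a linear character of `T`. -/
noncomputable def indT (θ : ↥T →* ℂˣ) (g : G) : ℂ :=
  (Nat.card T : ℂ)⁻¹ * ∑ x : G, ext0 θ (x⁻¹ * g * x)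

theorem indT_classFun (θ : ↥T →* ℂˣ) : Cfsg.IsClassFunction G (indT θ) := by
  intro g t
  unfold indT
  congr 1
  exact Fintype.sum_equiv (Equiv.mulLeft t⁻¹) _ _ fun x => by
    simp only [Equiv.coe_mulLeft]; congr 1; group

theorem indT_one (θ : ↥T →* ℂˣ) : indT θ 1 = (Nat.card G : ℂ) / Nat.card T := by
  have : ∀ x : G, ext0 θ (x⁻¹ * 1 * x) = 1 := fun x => by
    rw [mul_one, inv_mul_cancel, ext0, dif_pos T.one_mem]
    rw [show (⟨1, T.one_mem⟩ : ↥T) = 1 from rfl, map_one, Units.val_one]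
  rw [indT, Finset.sum_congr rfl fun x _ => this x, Finset.sum_const, Finset.card_univ,
    nsmul_eq_mul, mul_one, Nat.card_eq_fintype_card (α := G), inv_mul_eq_div]

theorem indT_of_not_mem (θ : ↥T →* ℂˣ) {g : G} (hg : g ∉ conjSet T) (h1 : g ≠ 1) : indT θ g = 0 := by
  refine mul_eq_zero_of_right _ (Finset.sum_eq_zero fun x _ => dif_neg fun hm => hg ?_)
  exact ⟨x, x⁻¹ * g * x, hm, fun z => h1 (by
    simpa [mul_assoc] using congrArg (fun w => x * w * x⁻¹) z), by group⟩

theorem indT_apply (hT : IsTorus T) (θ : ↥T →* ℂˣ) {c : ↥T} (hc : c ≠ 1) :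
    indT θ c = (Nat.card T : ℂ)⁻¹ *
      ∑ n : ↥(Subgroup.normalizer (T : Set G)), (tw θ n c : ℂ) := by
  rw [indT]
  congr 1
  rw [← Finset.sum_subset (Finset.subset_univ
    (Finset.univ.filter fun x : G => x ∈ Subgroup.normalizer (T : Set G)))]
  · refine Finset.sum_bij' (fun x hx => (⟨x, (Finset.mem_filter.1 hx).2⟩ : ↥(Subgroup.normalizer (T : Set G))))
      (fun n _ => (n : G)) (fun _ _ => Finset.mem_univ _)
      (fun n _ => Finset.mem_filter.2 ⟨Finset.mem_univ _, n.2⟩) (fun _ _ => rfl) (fun _ _ => rfl) ?_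
    intro x hx
    have hm : x⁻¹ * (c : G) * x ∈ T := by
      have := (Subgroup.mem_normalizer_iff.1 (inv_mem (Finset.mem_filter.1 hx).2) (c : G)).1 c.2
      rwa [inv_inv] at this
    rw [ext0, dif_pos hm]
    rfl
  · intro x _ hx
    refine dif_neg fun hm => hx (Finset.mem_filter.2 ⟨Finset.mem_univ _, ?_⟩)
    have := hT.ti x⁻¹ c c.2 (fun z => hc (Subtype.ext z)) (by rwa [inv_inv])
    simpa using inv_mem this

theorem sum_char_mul_conj (θ θ' : ↥T →* ℂˣ) :
    ∑ c : ↥T, (θ c : ℂ) * conj (θ' c : ℂ) = if θ = θ' then (Nat.card T : ℂ) else 0 := by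
  have hu : ∀ (φ : ↥T →* ℂˣ) (c : ↥T), conj (φ c : ℂ) = (φ c : ℂ)⁻¹ := fun φ c => by
    refine (Complex.inv_eq_conj ?_).symm
    refine Complex.norm_eq_one_of_pow_eq_one (n := Fintype.card ↥T) ?_ Fintype.card_ne_zero
    rw [← Units.val_pow_eq_pow_val, ← map_pow, pow_card_eq_one, map_one, Units.val_one]
  rw [Finset.sum_congr rfl fun c _ => by rw [hu θ' c]]
  by_cases h : θ = θ'
  · subst h
    rw [if_pos rfl, Finset.sum_congr rfl fun c _ => mul_inv_cancel₀ (Units.ne_zero (θ c))]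
    simp [Nat.card_eq_fintype_card]
  · rw [if_neg h]
    obtain ⟨d, hd⟩ : ∃ d, θ d ≠ θ' d := by
      by_contra hh
      push Not at hh
      exact h (MonoidHom.ext hh)
    set S := ∑ c : ↥T, (θ c : ℂ) * (θ' c : ℂ)⁻¹
    have hS : ((θ d : ℂ) * (θ' d : ℂ)⁻¹) * S = S := by
      rw [Finset.mul_sum]
      exact Fintype.sum_equiv (Equiv.mulLeft d) _ _ fun c => by
        simp only [Equiv.coe_mulLeft, map_mul, Units.val_mul, mul_inv]; ring
    have hne : (θ d : ℂ) * (θ' d : ℂ)⁻¹ - 1 ≠ 0 := by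
      intro z
      exact hd (Units.ext (by rw [← div_eq_mul_inv, sub_eq_zero, div_eq_one_iff_eq (Units.ne_zero _)] at z; exact z))
    exact (mul_eq_zero.1 (show ((θ d : ℂ) * (θ' d : ℂ)⁻¹ - 1) * S = 0 by rw [sub_mul, hS, one_mul, sub_self])).resolve_left hne

/-- The sum over `T` of the products of two induced characters. -/
theorem sum_indT (hT : IsTorus T) {e : ℕ}
    (he : Nat.card (Subgroup.normalizer (T : Set G)) = e * Nat.card T)
    {θ θ' : ↥T →* ℂˣ} (hθ : θ' ≠ 1) :
    ∑ c ∈ Finset.univ.filter (fun c => c ∈ T ∧ c ≠ 1), indT θ c * conj (indT θ' c) =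
      (if ∃ n, tw θ' n = θ then (e : ℂ) * Nat.card T else 0) - (e : ℂ) ^ 2 := by
  set N := Subgroup.normalizer (T : Set G)
  have hbij : ∑ c ∈ Finset.univ.filter (fun c => c ∈ T ∧ c ≠ 1), indT θ c * conj (indT θ' c) =
      ∑ c ∈ (Finset.univ : Finset ↥T).erase 1, indT θ c * conj (indT θ' c) := by
    refine Finset.sum_bij' (fun c hc => (⟨c, (Finset.mem_filter.1 hc).2.1⟩ : ↥T)) (fun c _ => (c : G))
      ?_ ?_ (fun _ _ => rfl) (fun _ _ => rfl) (fun _ _ => rfl)
    · intro c hc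
      exact Finset.mem_erase.2 ⟨fun z => (Finset.mem_filter.1 hc).2.2 (congrArg Subtype.val z), Finset.mem_univ _⟩
    · intro c hc
      exact Finset.mem_filter.2 ⟨Finset.mem_univ _, c.2, fun z => (Finset.mem_erase.1 hc).1 (Subtype.ext z)⟩
  set a : ℂ := (Nat.card T : ℂ)
  have ha : a ≠ 0 := Nat.cast_ne_zero.2 Nat.card_pos.ne'
  let O : (↥T →* ℂˣ) → ↥T → ℂ := fun φ c => a⁻¹ * ∑ n : ↥N, (tw φ n c : ℂ)
  have hO : ∀ c ∈ (Finset.univ : Finset ↥T).erase 1,
      indT θ c * conj (indT θ' c) = O θ c * conj (O θ' c) := by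
    intro c hc
    have h1 := (Finset.mem_erase.1 hc).1
    rw [indT_apply hT θ h1, indT_apply hT θ' h1]
  have hone : ∀ φ : ↥T →* ℂˣ, O φ 1 = e := by
    intro φ
    simp only [O, map_one, Units.val_one, Finset.sum_const, Finset.card_univ, nsmul_eq_mul, mul_one]
    rw [← Nat.card_eq_fintype_card, he, Nat.cast_mul]
    rw [show (Nat.card T : ℂ) = a from rfl]
    field_simp
  have hcount : ∀ n : ↥N, ((Finset.univ.filter fun n' : ↥N => tw θ n = tw θ' n').card : ℂ) =
      if ∃ n, tw θ' n = θ then a else 0 := by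
    intro n
    by_cases h : ∃ n, tw θ' n = θ
    · obtain ⟨k, hk⟩ := h
      rw [if_pos ⟨k, hk⟩]
      have : Nat.card T = (Finset.univ.filter fun n' : ↥N => tw θ n = tw θ' n').card := by
        rw [Nat.card_eq_fintype_card, ← Finset.card_univ]
        refine Finset.card_bij (fun (t : ↥T) _ => n * k * ⟨t, Subgroup.le_normalizer t.2⟩) ?_ ?_ ?_
        · intro t _
          refine Finset.mem_filter.2 ⟨Finset.mem_univ _, ?_⟩
          rw [tw_mul, tw_mul, (tw_eq_self_iff hT hθ _).2 t.2, hk]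
        · intro s _ t _ e'
          exact Subtype.ext (congrArg (fun z : ↥N => (z : G)) (mul_left_cancel e') :)
        · intro n' hn'
          have h1 := (Finset.mem_filter.1 hn').2
          rw [← hk, ← tw_mul] at h1
          have h2 : tw θ' ((n * k)⁻¹ * n') = θ' := by
            rw [tw_mul, ← h1, ← tw_mul, inv_mul_cancel, tw_one]
          refine ⟨⟨_, (tw_eq_self_iff hT hθ _).1 h2⟩, Finset.mem_univ _, Subtype.ext ?_⟩
          show (n : G) * k * ((((n : G) * k)⁻¹ : G) * n') = n'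
          rw [mul_inv_cancel_left]
      rw [← this]
    · rw [if_neg h, Nat.cast_eq_zero, Finset.card_eq_zero, Finset.filter_eq_empty_iff]
      intro n' _ h1
      refine h ⟨n⁻¹ * n', ?_⟩
      rw [tw_mul, ← h1, ← tw_mul, inv_mul_cancel, tw_one]
  have hfull : ∑ c : ↥T, O θ c * conj (O θ' c) = if ∃ n, tw θ' n = θ then (e : ℂ) * a else 0 := by
    have h1 : ∀ c : ↥T, O θ c * conj (O θ' c) =
        a⁻¹ * a⁻¹ * ∑ n : ↥N, ∑ n' : ↥N, (tw θ n c : ℂ) * conj (tw θ' n' c : ℂ) := by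
      intro c
      simp only [O, map_mul, map_sum, map_inv₀]
      rw [show conj a = a from Complex.conj_natCast _, mul_mul_mul_comm, Finset.sum_mul_sum]
    rw [Finset.sum_congr rfl fun c _ => h1 c, ← Finset.mul_sum, Finset.sum_comm,
      Finset.sum_congr rfl fun n _ => by
        rw [Finset.sum_comm, Finset.sum_congr rfl fun n' _ => sum_char_mul_conj (tw θ n) (tw θ' n'),
          Finset.sum_ite, Finset.sum_const_zero, add_zero, Finset.sum_const, nsmul_eq_mul, hcount n],
      Finset.sum_const, Finset.card_univ, nsmul_eq_mul, ← Nat.card_eq_fintype_card, he, Nat.cast_mul]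
    rw [show (Nat.card T : ℂ) = a from rfl]
    split_ifs
    · field_simp
    · simp
  rw [hbij, Finset.sum_congr rfl hO, Finset.sum_erase_eq_sub (Finset.mem_univ _), hfull, hone, hone,
    Complex.conj_natCast, sq]

end Cfsg.Agent.Lib.SzChars.TISum
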