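import Cfsg.Agent.Lib.SzChars.Kinds
import Cfsg.Agent.Lib.MinDegree.Suzuki
import Cfsg.Agent.Lib.Characters.Generalized
import Cfsg.Agent.Lib.Characters.Degree

/-!
# Generalized characters of the root group of a Suzuki group

A function constant on the involutions and on the elements of order four of the root group is a
generalized character under two congruences; the second uses that a character with non-trivial
central character has degree divisible by `2^m`.
-/

set_option autoImplicit false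
set_option linter.unusedSectionVars false

namespace Cfsg.Agent.Lib.SzChars.UChars

open Cfsg.Agent.Lib.LieTwisted.Suzuki Cfsg.Agent.Lib.SzElements.Basic
open Cfsg.Agent.Lib.Characters.Basic
open scoped ComplexConjugate Classical

variable {F : Type*} [Field F] [Fintype F] {m : ℕ} (h : IsSzField F m) (hm : 1 ≤ m)

include h hm

/-- The sum of an irreducible character of the root group over the centre. -/
theorem sum_centre (χ : Cfsg.IrrCharacter ↥(unip h)) :
    ∃ d : ℕ, (χ : ↥(unip h) → ℂ) 1 = d ∧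
      ((∑ b : F, (χ : ↥(unip h) → ℂ) ⟨uS h 0 b, h.uS_mem 0 b⟩) = (Fintype.card F : ℂ) * d ∨
        ((∑ b : F, (χ : ↥(unip h) → ℂ) ⟨uS h 0 b, h.uS_mem 0 b⟩) = 0 ∧ 2 ^ m ∣ d)) := by
  obtain ⟨d, hd0, hdvd, hd⟩ := Cfsg.Agent.Lib.Characters.Degree.exists_degree_dvd χ
  refine ⟨d, hd, ?_⟩
  obtain ⟨n, ρ, hρ, hχ⟩ := exists_rep χ
  haveI := hρ
  have hn : (n : ℂ) = d := by
    rw [← hd, ← hχ, Representation.char_one, Module.finrank_fin_fun]
  have hcen : ∀ b : F, ∃ c : ℂ, ρ ⟨uS h 0 b, h.uS_mem 0 b⟩ = c • (1 : Module.End ℂ (Fin n → ℂ)) := by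
    intro b
    have hT : ∀ g : ↥(unip h), ρ ⟨uS h 0 b, h.uS_mem 0 b⟩ * ρ g = ρ g * ρ ⟨uS h 0 b, h.uS_mem 0 b⟩ := by
      rintro ⟨_, a, a', rfl⟩
      rw [← map_mul, ← map_mul]
      congr 1
      refine Subtype.ext ?_
      show uS h 0 b * uS h a a' = uS h a a' * uS h 0 b
      rw [h.uS_mul, h.uS_mul, sg_zero, zero_mul, mul_zero, add_zero, add_zero, zero_add, add_zero,
        add_comm b a']
    let f : Representation.IntertwiningMap ρ ρ := ⟨ρ ⟨uS h 0 b, h.uS_mem 0 b⟩, fun g => hT g⟩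
    obtain ⟨c, hc⟩ :=
      (Representation.IsIrreducible.algebraMap_intertwiningMap_bijective_of_isAlgClosed (ρ := ρ)).2 f
    have := congrArg Representation.IntertwiningMap.toLinearMap hc
    rw [Algebra.algebraMap_eq_smul_one] at this
    exact ⟨c, this.symm⟩
  choose ω hω using hcen
  have hn0 : 0 < n := by
    have : (n : ℕ) = d := by exact_mod_cast hn
    omega
  haveI : Nonempty (Fin n) := ⟨⟨0, hn0⟩⟩
  have hsmul : Function.Injective fun c : ℂ => c • (1 : Module.End ℂ (Fin n → ℂ)) := by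
    intro a b hab
    have := congrFun (LinearMap.congr_fun hab (fun _ => (1 : ℂ))) (Classical.arbitrary _)
    simpa using this
  let Ω : AddChar F ℂ :=
    { toFun := ω
      map_zero_eq_one' := hsmul (by
        show ω 0 • (1 : Module.End ℂ (Fin n → ℂ)) = (1 : ℂ) • 1
        rw [← hω, one_smul, ← map_one ρ]
        exact congrArg ρ (Subtype.ext h.uS_zero))
      map_add_eq_mul' := fun a b => hsmul (by
        show ω (a + b) • (1 : Module.End ℂ (Fin n → ℂ)) = (ω a * ω b) • 1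
        rw [← hω, show (⟨uS h 0 (a + b), h.uS_mem _ _⟩ : ↥(unip h)) =
            ⟨uS h 0 a, h.uS_mem _ _⟩ * ⟨uS h 0 b, h.uS_mem _ _⟩ from Subtype.ext (by
              show uS h 0 (a + b) = uS h 0 a * uS h 0 b
              rw [h.uS_mul, sg_zero, zero_mul, add_zero, add_zero]),
          map_mul, hω, hω, smul_mul_smul_comm, one_mul]) }
  have hval : ∀ b : F, (χ : ↥(unip h) → ℂ) ⟨uS h 0 b, h.uS_mem 0 b⟩ = ω b * d := by
    intro b
    rw [← hχ]
    show LinearMap.trace ℂ _ (ρ ⟨uS h 0 b, h.uS_mem 0 b⟩) = _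
    rw [hω, map_smul, LinearMap.trace_one, smul_eq_mul, Module.finrank_fin_fun, hn]
  rw [Finset.sum_congr rfl fun b _ => hval b, ← Finset.sum_mul]
  by_cases h1 : Ω = 0
  · left
    have : ∀ b : F, ω b = 1 := fun b => DFunLike.congr_fun h1 b
    rw [Finset.sum_congr rfl fun b _ => this b, Finset.sum_const, Finset.card_univ, nsmul_eq_mul, mul_one]
  · right
    refine ⟨by rw [show ∑ b : F, ω b = 0 from AddChar.sum_eq_zero_iff_ne_zero.2 h1, zero_mul], ?_⟩
    obtain ⟨ψ, hψ, hψs⟩ := MinDegree.Suzuki.exists_invariant_char h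
    have hne : ψ ≠ 1 := by
      obtain ⟨u, hu⟩ := hψ
      intro e
      exact hu (by rw [e, AddChar.one_apply])
    have hbij : Function.Bijective (AddChar.mulShift ψ) :=
      (Fintype.bijective_iff_injective_and_card _).2
        ⟨AddChar.to_mulShift_inj_of_isPrimitive (AddChar.IsPrimitive.of_ne_one hne), (AddChar.card_eq).symm⟩
    obtain ⟨k, hk⟩ := hbij.2 Ω
    have hk0 : k ≠ 0 := by
      intro e
      refine h1 (hk ▸ ?_)
      ext b
      rw [AddChar.mulShift_apply, e, zero_mul, AddChar.map_zero_eq_one, AddChar.zero_apply]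
    have hb := MinDegree.Suzuki.eigenspace_bound h (W := Fin n → ℂ)
      (by rw [Module.finrank_fin_fun]; exact hn0) hψ hψs hk0
      (fun a => ρ ⟨uS h a 0, h.uS_mem a 0⟩) (by
        show ρ ⟨uS h 0 0, _⟩ = 1
        rw [← map_one ρ]
        exact congrArg ρ (Subtype.ext h.uS_zero))
      (by
        intro a c
        show ρ ⟨uS h a 0, _⟩ * ρ ⟨uS h c 0, _⟩ = ψ (k * (sg m a * c)) • ρ ⟨uS h (a + c) 0, _⟩
        have e : (⟨uS h a 0, h.uS_mem a 0⟩ : ↥(unip h)) * ⟨uS h c 0, h.uS_mem c 0⟩ =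
            ⟨uS h 0 (sg m a * c), h.uS_mem _ _⟩ * ⟨uS h (a + c) 0, h.uS_mem _ _⟩ := Subtype.ext (by
          show uS h a 0 * uS h c 0 = uS h 0 (sg m a * c) * uS h (a + c) 0
          rw [h.uS_mul, h.uS_mul, sg_zero, zero_mul, zero_add, zero_add, add_zero, add_zero, zero_add])
        rw [← map_mul, e, map_mul, hω, smul_mul_assoc, one_mul]
        congr 1
        have := DFunLike.congr_fun hk (sg m a * c)
        rw [AddChar.mulShift_apply] at this
        exact this.symm)
    rw [Module.finrank_fin_fun] at hb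
    have hnd : n = d := by exact_mod_cast hn
    rw [hnd] at hb
    rw [h.card_unip, h.card, ← pow_mul] at hdvd
    obtain ⟨i, -, rfl⟩ := (Nat.dvd_prime_pow Nat.prime_two).1 hdvd
    exact pow_dvd_pow 2 ((Nat.pow_le_pow_iff_right (by norm_num)).1 hb)

/-- A function constant on involutions and on elements of order four. -/
theorem isGeneralized {f : ↥(unip h) → ℂ} {d u₂ u₄ k k' : ℤ} (h1 : f 1 = d)
    (h2 : ∀ c : ↥(unip h), c ≠ 1 → c ^ 2 = 1 → f c = u₂) (h4 : ∀ c : ↥(unip h), c ^ 2 ≠ 1 → f c = u₄)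
    (hk : (d - u₄) + ((Fintype.card F : ℤ) - 1) * (u₂ - u₄) = (Fintype.card F : ℤ) ^ 2 * k)
    (hk' : 2 ^ m * ((d - u₄) - (u₂ - u₄)) = (Fintype.card F : ℤ) ^ 2 * k') :
    Cfsg.IsGeneralizedCharacter ↥(unip h) f := by
  have hval : ∀ c : ↥(unip h), f c = (u₄ : ℂ) + (if c = 1 then (d : ℂ) - u₄ else
      if c ^ 2 = 1 then (u₂ : ℂ) - u₄ else 0) := by
    intro c
    by_cases hc : c = 1
    · rw [if_pos hc, hc, h1]; ring
    · rw [if_neg hc]
      by_cases hs : c ^ 2 = 1
      · rw [if_pos hs, h2 c hc hs]; ring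
      · rw [if_neg hs, h4 c hs, add_zero]
  have hcl : Cfsg.IsClassFunction ↥(unip h) f := by
    intro g t
    have e1 : t * g * t⁻¹ = 1 ↔ g = 1 := conj_eq_one_iff
    have e2 : (t * g * t⁻¹) ^ 2 = 1 ↔ g ^ 2 = 1 := by rw [conj_pow, conj_eq_one_iff]
    rw [hval, hval, if_congr e1 rfl (if_congr e2 rfl rfl)]
  refine Cfsg.Agent.Lib.Characters.Generalized.of_classInner_int hcl fun χ => ?_
  obtain ⟨e, he, hsum⟩ := sum_centre h hm χ
  set q : ℂ := (Fintype.card F : ℂ)
  have hq : q ≠ 0 := Nat.cast_ne_zero.2 Fintype.card_ne_zero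
  have hone : ∃ z : ℤ, (q ^ 2)⁻¹ * ∑ c : ↥(unip h), conj ((χ : ↥(unip h) → ℂ) c) = z := by
    obtain ⟨j, hj⟩ := exists_classInner_nat (isCharacter_one (G := ↥(unip h))) (isCharacter_irr χ)
    refine ⟨j, ?_⟩
    rw [Int.cast_natCast, ← hj, Cfsg.classInner, h.card_unip]
    simp [q]
  obtain ⟨z, hz⟩ := hone
  let j : F → ↥(unip h) := fun b => ⟨uS h 0 b, h.uS_mem 0 b⟩
  have hg : ∀ b : F, (if j b = 1 then (d : ℂ) - u₄ else if j b ^ 2 = 1 then (u₂ : ℂ) - u₄ else 0) =
      if b = 0 then (d : ℂ) - u₄ else (u₂ : ℂ) - u₄ := by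
    intro b
    by_cases hb : b = 0
    · rw [if_pos hb, if_pos (Subtype.ext (by rw [show (j b : Cfsg.Sz F m) = uS h 0 b from rfl, hb, h.uS_zero]; rfl))]
    · rw [if_neg hb, if_neg, if_pos]
      · refine Subtype.ext ?_
        show uS h 0 b ^ 2 = 1
        rw [h.uS_sq, sg_zero, zero_mul, h.uS_zero]
      · intro e0
        have : uS h 0 b = 1 := congrArg Subtype.val e0
        rw [← h.uS_zero] at this
        exact hb (h.uS_coords_inj this).2
  have hsupp : ∑ c : ↥(unip h), (if c = 1 then (d : ℂ) - u₄ else if c ^ 2 = 1 then (u₂ : ℂ) - u₄ else 0) *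
      conj ((χ : ↥(unip h) → ℂ) c) =
      ∑ b : F, (if b = 0 then (d : ℂ) - u₄ else (u₂ : ℂ) - u₄) * conj ((χ : ↥(unip h) → ℂ) (j b)) := by
    rw [Finset.sum_congr rfl fun b (_ : b ∈ (Finset.univ : Finset F)) => by rw [← hg b]]
    symm
    refine Finset.sum_bij_ne_zero (fun b _ _ => j b) (fun _ _ _ => Finset.mem_univ _) ?_ ?_ (fun _ _ _ => rfl)
    · intro a _ _ b _ _ hab
      exact (h.uS_coords_inj (congrArg Subtype.val hab)).2
    · rintro ⟨c, a, b, rfl⟩ _ hne
      have ha : a = 0 := by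
        by_contra ha
        refine hne ?_
        rw [if_neg, if_neg, zero_mul]
        · exact fun e2 => ha (eq_zero_of_sq h (congrArg Subtype.val e2))
        · intro e1
          have : uS h a b = 1 := congrArg Subtype.val e1
          rw [← h.uS_zero] at this
          exact ha (h.uS_coords_inj this).1
      subst ha
      exact ⟨b, Finset.mem_univ _, hne, rfl⟩
  have hj0 : (χ : ↥(unip h) → ℂ) (j 0) = e := by
    rw [← he]; exact congrArg _ (Subtype.ext h.uS_zero)
  have hsplit : ∑ b : F, (if b = 0 then (d : ℂ) - u₄ else (u₂ : ℂ) - u₄) * conj ((χ : ↥(unip h) → ℂ) (j b)) =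
      ((d : ℂ) - u₂) * e + ((u₂ : ℂ) - u₄) * conj (∑ b : F, (χ : ↥(unip h) → ℂ) (j b)) := by
    rw [map_sum, Finset.mul_sum, ← Finset.add_sum_erase _ _ (Finset.mem_univ (0 : F)), if_pos rfl,
      ← Finset.add_sum_erase (Finset.univ) (fun b : F => ((u₂ : ℂ) - u₄) * conj ((χ : ↥(unip h) → ℂ) (j b)))
        (Finset.mem_univ (0 : F)), hj0, Complex.conj_natCast,
      Finset.sum_congr rfl fun b hb => by rw [if_neg (Finset.mem_erase.1 hb).1]]
    ring
  have hinner : Cfsg.classInner f (χ : ↥(unip h) → ℂ) = (u₄ : ℂ) * z + (q ^ 2)⁻¹ *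
      (((d : ℂ) - u₂) * e + ((u₂ : ℂ) - u₄) * conj (∑ b : F, (χ : ↥(unip h) → ℂ) (j b))) := by
    rw [Cfsg.classInner, ← hsplit, ← hsupp, ← hz, h.card_unip, Nat.cast_pow,
      Finset.sum_congr rfl fun c _ => by rw [hval c, add_mul], Finset.sum_add_distrib, ← Finset.mul_sum]
    ring
  have hkC := congrArg (Int.cast (R := ℂ)) hk
  have hk'C := congrArg (Int.cast (R := ℂ)) hk'
  push_cast at hkC hk'C
  rcases hsum with hs | ⟨hs, i, hi⟩
  · refine ⟨u₄ * z + k * (e : ℤ), ?_⟩
    rw [hinner, hs, map_mul, Complex.conj_natCast, Complex.conj_natCast]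
    push_cast
    field_simp
    linear_combination (e : ℂ) * hkC
  · refine ⟨u₄ * z + k' * (i : ℤ), ?_⟩
    rw [hinner, hs, map_zero, mul_zero, add_zero]
    push_cast [hi]
    field_simp
    linear_combination (i : ℂ) * hk'C

end Cfsg.Agent.Lib.SzChars.UChars
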