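import Cfsg.Agent.Lib.SzChars.Table
import Cfsg.Agent.Lib.SzChars.Dual

/-!
# Values of the irreducible characters of a Suzuki group

The values of the two characters of degree `2^m (q - 1)` follow from the orthogonality relations.
-/

set_option autoImplicit false
set_option linter.unusedSectionVars false

namespace Cfsg.Agent.Lib.SzChars.Values

open Cfsg.Agent.Lib.LieTwisted.Suzuki Cfsg.Agent.Lib.SzElements.Basic
open Cfsg.Agent.Lib.SzTori
open Cfsg.Agent.Lib.SzChars.TISum Cfsg.Agent.Lib.SzChars.Kinds Cfsg.Agent.Lib.SzChars.Family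
open Cfsg.Agent.Lib.SzChars.Table Cfsg.Agent.Lib.SzChars.Dual
open Cfsg.Agent.Lib.Characters.Basic
open scoped ComplexConjugate Classical

variable {F : Type*} [Field F] [Fintype F] {m : ℕ} [Fintype (Cfsg.Sz F m)]
  [Fintype (Cfsg.IrrCharacter (Cfsg.Sz F m))]
  (h : IsSzField F m) (hm : 1 ≤ m) {TP TM : Subgroup (Cfsg.Sz F m)} (hF : Frame h TP TM)

/-- The sum over a family. -/
noncomputable def imgSum {T : Subgroup (Cfsg.Sz F m)} {a e : ℕ} {p : Param}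
    (hG : Good h T a e p (TP := TP) (TM := TM)) (f : Cfsg.IrrCharacter (Cfsg.Sz F m) → ℂ) : ℂ :=
  ∑ χ ∈ Finset.univ.filter (fun χ => χ ∈ Set.range (famIrr h hm hF hG)), f χ

/-- The two remaining characters. -/
structure Completion (W₁ W₂ : Cfsg.IrrCharacter (Cfsg.Sz F m)) : Prop where
  deg₁ : (W₁ : Cfsg.Sz F m → ℂ) 1 = (2 : ℂ) ^ m * ((Fintype.card F : ℂ) - 1)
  deg₂ : (W₂ : Cfsg.Sz F m → ℂ) 1 = (2 : ℂ) ^ m * ((Fintype.card F : ℂ) - 1)
  sum : ∀ f : Cfsg.IrrCharacter (Cfsg.Sz F m) → ℂ,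
    ∑ χ, f χ = f (oneChar (Cfsg.Sz F m)) + f (stIrr h hm hF) + imgSum h hm hF (good_C h hm hF) f +
      imgSum h hm hF (good_P h hm hF) f + imgSum h hm hF (good_M h hm hF) f + f W₁ + f W₂

include h hm hF

theorem exists_completion : ∃ W₁ W₂, Completion h hm hF W₁ W₂ := by
  obtain ⟨W₁, W₂, -, h1, h2, -, hs⟩ := classify h hm hF
  refine ⟨W₁, W₂, ⟨?_, ?_, fun f => hs f⟩⟩
  · rw [h1]; push_cast [Nat.cast_sub (show 1 ≤ Fintype.card F from Fintype.card_pos)]; ring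
  · rw [h2]; push_cast [Nat.cast_sub (show 1 ≤ Fintype.card F from Fintype.card_pos)]; ring

variable {T : Subgroup (Cfsg.Sz F m)} {a e : ℕ} {p : Param}

omit hF in
theorem famIrr_apply (hF : Frame h TP TM) (hG : Good h T a e p (TP := TP) (TM := TM))
    (θ : {θ : ↥T →* ℂˣ // θ ≠ 1}) (g : Cfsg.Sz F m) :
    (famIrr h hm hF hG θ : Cfsg.Sz F m → ℂ) g = fam T p θ.1 g := rfl

theorem imgSum_eq (hG : Good h T a e p (TP := TP) (TM := TM)) [Fintype {θ : ↥T →* ℂˣ // θ ≠ 1}]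
    (f : Cfsg.IrrCharacter (Cfsg.Sz F m) → ℂ) :
    (e : ℂ) * imgSum h hm hF hG f = ∑ θ : {θ : ↥T →* ℂˣ // θ ≠ 1}, f (famIrr h hm hF hG θ) := by
  unfold imgSum
  convert sum_image h hm hF hG f

theorem img_const (hG : Good h T a e p (TP := TP) (TM := TM))
    {f : Cfsg.IrrCharacter (Cfsg.Sz F m) → ℂ} {v : ℂ} (hv : ∀ θ, f (famIrr h hm hF hG θ) = v) :
    (e : ℂ) * imgSum h hm hF hG f = ((a : ℂ) - 1) * v := by
  obtain ⟨hfin, hc⟩ := finite_dual hG.tor.isTorus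
  haveI := hfin
  haveI := Fintype.ofFinite (↥T →* ℂˣ)
  rw [imgSum_eq h hm hF hG f, Finset.sum_congr rfl fun θ _ => hv θ, Finset.sum_const,
    Finset.card_univ, nsmul_eq_mul, Fintype.card_subtype_compl, Fintype.card_subtype_eq,
    ← Nat.card_eq_fintype_card, hc, hG.tor.card,
    Nat.cast_sub (hG.tor.card ▸ Nat.card_pos), Nat.cast_one]

theorem fam_on (hG : Good h T a e p (TP := TP) (TM := TM)) (θ : ↥T →* ℂˣ) {g : Cfsg.Sz F m}
    (hg : g ∈ conjSet T) : fam T p θ g = (p.ε : ℂ) * indT θ g :=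
  fam_tor h hm T p θ (pow_four_tor h hm hG.tor hG.odd hg)

theorem fam_off (hG : Good h T a e p (TP := TP) (TM := TM)) (θ : ↥T →* ℂˣ) {g : Cfsg.Sz F m}
    {S : Subgroup (Cfsg.Sz F m)} {b f : ℕ} (hS : Tor S b f) (hb : Odd b) (hne : b ≠ a)
    (hg : g ∈ conjSet S) : fam T p θ g = 0 := by
  rw [fam_tor h hm T p θ (pow_four_tor h hm hS hb hg), indT_of_not_mem θ
    (fun z => hne (by rw [← cen_card_tor hS hg, ← cen_card_tor hG.tor z]))
    (fun z => pow_four_tor h hm hS hb hg (by rw [z, one_pow])), mul_zero]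

theorem img_col (hG : Good h T a e p (TP := TP) (TM := TM)) {g : Cfsg.Sz F m} (hg : g ∈ conjSet T)
    (v : ℂ) {f : Cfsg.IrrCharacter (Cfsg.Sz F m) → ℂ}
    (hf : ∀ θ, f (famIrr h hm hF hG θ) = (p.ε : ℂ) * indT θ.1 g * v) :
    imgSum h hm hF hG f = -(p.ε : ℂ) * v := by
  obtain ⟨hfin, hc⟩ := finite_dual hG.tor.isTorus
  haveI := hfin
  haveI := Fintype.ofFinite (↥T →* ℂˣ)
  have he : (e : ℂ) ≠ 0 := by
    have := Nat.card_pos (α := ↥(Subgroup.normalizer (T : Set (Cfsg.Sz F m))))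
    rw [hG.tor.normalizer] at this
    exact Nat.cast_ne_zero.2 fun z => by simp [z] at this
  refine mul_left_cancel₀ he ?_
  rw [imgSum_eq h hm hF hG f, Finset.sum_congr rfl fun θ _ => hf θ, ← Finset.sum_mul,
    ← Finset.mul_sum, sum_column hG.tor.isTorus (by rw [hG.tor.normalizer, hG.tor.card]) hg]
  ring

theorem img_mul (hG : Good h T a e p (TP := TP) (TM := TM)) {g k : Cfsg.Sz F m} (hg : g ∈ conjSet T)
    (hk : k ∈ conjSet T) {f : Cfsg.IrrCharacter (Cfsg.Sz F m) → ℂ}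
    (hf : ∀ θ, f (famIrr h hm hF hG θ) = indT θ.1 g * indT θ.1 k) :
    imgSum h hm hF hG f = (if IsConj g k⁻¹ then (a : ℂ) else 0) - e := by
  obtain ⟨hfin, hc⟩ := finite_dual hG.tor.isTorus
  haveI := hfin
  haveI := Fintype.ofFinite (↥T →* ℂˣ)
  have he : (e : ℂ) ≠ 0 := by
    have := Nat.card_pos (α := ↥(Subgroup.normalizer (T : Set (Cfsg.Sz F m))))
    rw [hG.tor.normalizer] at this
    exact Nat.cast_ne_zero.2 fun z => by simp [z] at this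
  refine mul_left_cancel₀ he ?_
  rw [imgSum_eq h hm hF hG f, Finset.sum_congr rfl fun θ _ => hf θ,
    sum_column_mul hG.tor.isTorus (by rw [hG.tor.normalizer, hG.tor.card]) hg hk, hG.tor.card]
  split_ifs <;> ring

omit hF in
theorem st_unip (hF : Frame h TP TM) {g : Cfsg.Sz F m} (hg : g ∈ conjSet (unip h)) :
    (stIrr h hm hF : Cfsg.Sz F m → ℂ) g = 0 := by
  obtain ⟨x, c, hc, hc1, rfl⟩ := hg
  show stFun h (x * c * x⁻¹) = 0
  rw [stFun_classFun h hm c x, stFun_unip h hm hc hc1]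

theorem st_tor {S : Subgroup (Cfsg.Sz F m)} (hS : S = (dS h).range ∨ S = TP ∨ S = TM)
    {g : Cfsg.Sz F m} (hg : g ∈ conjSet S) :
    (stIrr h hm hF : Cfsg.Sz F m → ℂ) g = if S = (dS h).range then 1 else -1 := by
  obtain ⟨x, c, hc, hc1, rfl⟩ := hg
  show stFun h (x * c * x⁻¹) = _
  rw [stFun_classFun h hm c x, stFun_tor h hm hF hS hc hc1]

theorem tori_ne : (dS h).range ≠ TP ∧ (dS h).range ≠ TM := by
  obtain ⟨n0, n1, -⟩ := torus_ne h hm
  exact ⟨fun z => n0 (by rw [← hF.plus.card, ← card_range_dS h hm, z]),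
    fun z => n1 (by rw [← hF.minus.card, ← card_range_dS h hm, z])⟩

theorem real_facts :
    (2 : ℂ) ^ (m + 1) = 2 * 2 ^ m ∧ (Fintype.card F : ℂ) = 2 * (2 ^ m * 2 ^ m) ∧
    ((Fintype.card F - 1 : ℕ) : ℂ) = (Fintype.card F : ℂ) - 1 ∧
    ((Fintype.card F + 2 ^ (m + 1) + 1 : ℕ) : ℂ) = (Fintype.card F : ℂ) + 2 * 2 ^ m + 1 ∧
    ((Fintype.card F - 2 ^ (m + 1) + 1 : ℕ) : ℂ) = (Fintype.card F : ℂ) - 2 * 2 ^ m + 1 := by
  obtain ⟨hr2, hlt, -, -, h8⟩ := r_facts h hm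
  refine ⟨by ring, ?_, ?_, ?_, ?_⟩
  · rw [h.card]; push_cast; ring
  · push_cast [Nat.cast_sub (show 1 ≤ Fintype.card F by omega)]; ring
  · push_cast; ring
  · push_cast [Nat.cast_sub hlt.le]; ring

omit h hm hF in
/-- Two complex numbers with the prescribed sum and square sum. -/
theorem eq_of_sums {x y v : ℂ} (hv : conj v = v) (hs : x + y = 2 * v)
    (hn : x * conj x + y * conj y = 2 * (v * v)) : x = v ∧ y = v := by
  have h0 : (x - v) * conj (x - v) + (y - v) * conj (y - v) = 0 := by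
    have hs' : conj x + conj y = 2 * v := by
      rw [← map_add, hs, map_mul, hv, Complex.conj_ofNat]
    simp only [map_sub, hv]
    linear_combination hn - v * hs - v * hs'
  rw [Complex.mul_conj, Complex.mul_conj, ← Complex.ofReal_add, Complex.ofReal_eq_zero] at h0
  have h1 := Complex.normSq_nonneg (x - v)
  have h2 := Complex.normSq_nonneg (y - v)
  exact ⟨sub_eq_zero.1 (Complex.normSq_eq_zero.1 (by linarith)), sub_eq_zero.1 (Complex.normSq_eq_zero.1 (by linarith))⟩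

omit hF in
theorem regular_col {g : Cfsg.Sz F m} (hg : g ≠ 1) :
    ∑ χ : Cfsg.IrrCharacter (Cfsg.Sz F m), (χ : Cfsg.Sz F m → ℂ) g * (χ : Cfsg.Sz F m → ℂ) 1 = 0 := by
  have h1 := Cfsg.Agent.Lib.Characters.Complete.sum_irr_mul_conj g (1 : Cfsg.Sz F m)
  rw [if_neg (fun z => hg (isConj_one_left.1 z))] at h1
  rw [← h1]
  exact Finset.sum_congr rfl fun χ _ => by rw [conj_apply_one (isCharacter_irr χ)]

omit hF in
theorem norm_col (g : Cfsg.Sz F m) :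
    ∑ χ : Cfsg.IrrCharacter (Cfsg.Sz F m), (χ : Cfsg.Sz F m → ℂ) g * conj ((χ : Cfsg.Sz F m → ℂ) g) =
      (Nat.card (Subgroup.centralizer ({g} : Set (Cfsg.Sz F m))) : ℂ) := by
  have h1 := Cfsg.Agent.Lib.Characters.Complete.sum_irr_mul_conj g g
  rw [if_pos (IsConj.refl g)] at h1
  exact h1

variable {W₁ W₂ : Cfsg.IrrCharacter (Cfsg.Sz F m)} (hW : Completion h hm hF W₁ W₂)

include hW

theorem W_split {g : Cfsg.Sz F m} (hg : g ∈ conjSet (dS h).range) :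
    (W₁ : Cfsg.Sz F m → ℂ) g = 0 ∧ (W₂ : Cfsg.Sz F m → ℂ) g = 0 := by
  obtain ⟨hr, hq, e0, e1, e2⟩ := real_facts h hm hF
  obtain ⟨n0, n1, -⟩ := torus_ne h hm
  obtain ⟨o0, o1, o2⟩ := odd_facts h hm
  have hS := split_tor h hm
  have hg1 : g ≠ 1 := fun z => pow_four_tor h hm hS o0 hg (by rw [z, one_pow])
  have fA : ∀ θ : {θ : ↥(dS h).range →* ℂˣ // θ ≠ 1}, (famIrr h hm hF (good_C h hm hF) θ : Cfsg.Sz F m → ℂ) g =
      ((pC F).ε : ℂ) * indT θ.1 g := fun θ => fam_on h hm hF (good_C h hm hF) θ.1 hg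
  have fB : ∀ θ, (famIrr h hm hF (good_P h hm hF) θ : Cfsg.Sz F m → ℂ) g = 0 :=
    fun θ => fam_off h hm hF (good_P h hm hF) θ.1 hS o0 n0 hg
  have fC : ∀ θ, (famIrr h hm hF (good_M h hm hF) θ : Cfsg.Sz F m → ℂ) g = 0 :=
    fun θ => fam_off h hm hF (good_M h hm hF) θ.1 hS o0 n1 hg
  have h1 := regular_col h hm (g := g) hg1
  rw [hW.sum] at h1
  have a1 := img_col h hm hF (good_C h hm hF) hg ((pC F).d : ℂ)
    (f := fun χ => (χ : Cfsg.Sz F m → ℂ) g * (χ : Cfsg.Sz F m → ℂ) 1) (fun θ => by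
      show _ * _ = _
      rw [fA, famIrr_apply, fam_one])
  have b1 := img_const h hm hF (good_P h hm hF)
    (f := fun χ => (χ : Cfsg.Sz F m → ℂ) g * (χ : Cfsg.Sz F m → ℂ) 1) (v := 0) (fun θ => by show _ * _ = _; rw [fB, zero_mul])
  have c1 := img_const h hm hF (good_M h hm hF)
    (f := fun χ => (χ : Cfsg.Sz F m → ℂ) g * (χ : Cfsg.Sz F m → ℂ) 1) (v := 0) (fun θ => by show _ * _ = _; rw [fC, zero_mul])
  simp only [mul_zero, mul_eq_zero, Nat.cast_eq_zero, OfNat.ofNat_ne_zero, false_or] at b1 c1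
  have h2 := norm_col h hm g
  rw [hW.sum, cen_card_tor hS hg] at h2
  have a2 := img_mul h hm hF (good_C h hm hF) hg (inv_mem_conjSet hg)
    (f := fun χ => (χ : Cfsg.Sz F m → ℂ) g * conj ((χ : Cfsg.Sz F m → ℂ) g)) (fun θ => by
      show _ * _ = _
      rw [fA, ← conj_indT, show ((pC F).ε : ℂ) = 1 by simp [pC], one_mul])
  rw [inv_inv, if_pos (IsConj.refl g)] at a2
  have b2 := img_const h hm hF (good_P h hm hF)
    (f := fun χ => (χ : Cfsg.Sz F m → ℂ) g * conj ((χ : Cfsg.Sz F m → ℂ) g)) (v := 0) (fun θ => by show _ * _ = _; rw [fB, zero_mul])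
  have c2 := img_const h hm hF (good_M h hm hF)
    (f := fun χ => (χ : Cfsg.Sz F m → ℂ) g * conj ((χ : Cfsg.Sz F m → ℂ) g)) (v := 0) (fun θ => by show _ * _ = _; rw [fC, zero_mul])
  simp only [mul_zero, mul_eq_zero, Nat.cast_eq_zero, OfNat.ofNat_ne_zero, false_or] at b2 c2
  have hst := st_tor h hm hF (Or.inl rfl) hg
  rw [if_pos rfl] at hst
  have hst1 : (stIrr h hm hF : Cfsg.Sz F m → ℂ) 1 = (Fintype.card F : ℂ) ^ 2 := by
    show stFun h 1 = _; rw [stFun, if_pos rfl]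
  rw [a1, b1, c1, hst, hst1, oneChar_apply, oneChar_apply, hW.deg₁, hW.deg₂] at h1
  rw [a2, b2, c2, hst, oneChar_apply, map_one, e0] at h2
  simp only [pC, Int.cast_add, Int.cast_pow, Int.cast_natCast, Int.cast_one] at h1
  have hw : (2 : ℂ) ^ m * ((Fintype.card F : ℂ) - 1) ≠ 0 := by
    refine mul_ne_zero (pow_ne_zero _ two_ne_zero) (sub_ne_zero.2 (Nat.cast_ne_one.2 ?_))
    obtain ⟨-, -, -, -, h8⟩ := r_facts h hm
    omega
  have hs : (W₁ : Cfsg.Sz F m → ℂ) g + (W₂ : Cfsg.Sz F m → ℂ) g = 0 :=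
    (mul_eq_zero.1 (show _ * ((2 : ℂ) ^ m * ((Fintype.card F : ℂ) - 1)) = 0 by linear_combination h1)).resolve_right hw
  exact eq_of_sums (v := 0) (map_zero _) (by rw [hs, mul_zero]) (by
    push_cast at h2
    linear_combination h2)

theorem w_ne : (2 : ℂ) ^ m * ((Fintype.card F : ℂ) - 1) ≠ 0 := by
  refine mul_ne_zero (pow_ne_zero _ two_ne_zero) (sub_ne_zero.2 (Nat.cast_ne_one.2 ?_))
  obtain ⟨-, -, -, -, h8⟩ := r_facts h hm
  omega

theorem st_one : (stIrr h hm hF : Cfsg.Sz F m → ℂ) 1 = (Fintype.card F : ℂ) ^ 2 := by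
  show stFun h 1 = _; rw [stFun, if_pos rfl]

omit hW in
theorem img_zero (hG : Good h T a e p (TP := TP) (TM := TM))
    {f : Cfsg.IrrCharacter (Cfsg.Sz F m) → ℂ} (hv : ∀ θ, f (famIrr h hm hF hG θ) = 0) :
    imgSum h hm hF hG f = 0 := by
  refine Finset.sum_eq_zero fun χ hχ => ?_
  obtain ⟨θ, rfl⟩ := (Finset.mem_filter.1 hχ).2
  exact hv θ

theorem W_plus {g : Cfsg.Sz F m} (hg : g ∈ conjSet TP) :
    (W₁ : Cfsg.Sz F m → ℂ) g = 1 ∧ (W₂ : Cfsg.Sz F m → ℂ) g = 1 := by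
  obtain ⟨hr, hq, e0, e1, e2⟩ := real_facts h hm hF
  obtain ⟨n0, n1, n2⟩ := torus_ne h hm
  obtain ⟨o0, o1, o2⟩ := odd_facts h hm
  have hS := hF.plus
  have hg1 : g ≠ 1 := fun z => pow_four_tor h hm hS o1 hg (by rw [z, one_pow])
  have fA : ∀ θ, (famIrr h hm hF (good_C h hm hF) θ : Cfsg.Sz F m → ℂ) g = 0 :=
    fun θ => fam_off h hm hF (good_C h hm hF) θ.1 hS o1 n0.symm hg
  have fB : ∀ θ, (famIrr h hm hF (good_P h hm hF) θ : Cfsg.Sz F m → ℂ) g = ((pP F m).ε : ℂ) * indT θ.1 g :=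
    fun θ => fam_on h hm hF (good_P h hm hF) θ.1 hg
  have fC : ∀ θ, (famIrr h hm hF (good_M h hm hF) θ : Cfsg.Sz F m → ℂ) g = 0 :=
    fun θ => fam_off h hm hF (good_M h hm hF) θ.1 hS o1 n2 hg
  have h1 := regular_col h hm (g := g) hg1
  rw [hW.sum] at h1
  rw [img_zero h hm hF (good_C h hm hF) (fun θ => by show _ * _ = _; rw [fA, zero_mul]),
    img_col h hm hF (good_P h hm hF) hg ((pP F m).d : ℂ) (fun θ => by
      show _ * _ = _
      rw [fB, famIrr_apply, fam_one]),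
    img_zero h hm hF (good_M h hm hF) (fun θ => by show _ * _ = _; rw [fC, zero_mul])] at h1
  have h2 := norm_col h hm g
  rw [hW.sum, cen_card_tor hS hg] at h2
  have b2 := img_mul h hm hF (good_P h hm hF) hg (inv_mem_conjSet hg)
    (f := fun χ => (χ : Cfsg.Sz F m → ℂ) g * conj ((χ : Cfsg.Sz F m → ℂ) g)) (fun θ => by
      show _ * _ = _
      rw [fB, map_mul, map_intCast, ← conj_indT]
      simp [pP])
  rw [inv_inv, if_pos (IsConj.refl g)] at b2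
  rw [img_zero h hm hF (good_C h hm hF) (fun θ => by show _ * _ = _; rw [fA, zero_mul]), b2,
    img_zero h hm hF (good_M h hm hF) (fun θ => by show _ * _ = _; rw [fC, zero_mul])] at h2
  have hst := st_tor h hm hF (Or.inr (Or.inl rfl)) hg
  rw [if_neg (tori_ne h hm hF).1.symm] at hst
  simp only [oneChar_apply, hst, st_one h hm hF hW, hW.deg₁, hW.deg₂, pP, map_one, map_neg] at h1 h2
  push_cast at h1 h2
  have hs : (W₁ : Cfsg.Sz F m → ℂ) g + (W₂ : Cfsg.Sz F m → ℂ) g - 2 = 0 :=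
    (mul_eq_zero.1 (show _ * ((2 : ℂ) ^ m * ((Fintype.card F : ℂ) - 1)) = 0 by
      linear_combination h1 + ((Fintype.card F : ℂ) - 1) * hr)).resolve_right (w_ne h hm hF hW)
  exact eq_of_sums (v := 1) (map_one _) (by linear_combination hs) (by linear_combination h2)

theorem W_minus {g : Cfsg.Sz F m} (hg : g ∈ conjSet TM) :
    (W₁ : Cfsg.Sz F m → ℂ) g = -1 ∧ (W₂ : Cfsg.Sz F m → ℂ) g = -1 := by
  obtain ⟨hr, hq, e0, e1, e2⟩ := real_facts h hm hF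
  obtain ⟨n0, n1, n2⟩ := torus_ne h hm
  obtain ⟨o0, o1, o2⟩ := odd_facts h hm
  have hS := hF.minus
  have hg1 : g ≠ 1 := fun z => pow_four_tor h hm hS o2 hg (by rw [z, one_pow])
  have fA : ∀ θ, (famIrr h hm hF (good_C h hm hF) θ : Cfsg.Sz F m → ℂ) g = 0 :=
    fun θ => fam_off h hm hF (good_C h hm hF) θ.1 hS o2 n1.symm hg
  have fB : ∀ θ, (famIrr h hm hF (good_P h hm hF) θ : Cfsg.Sz F m → ℂ) g = 0 :=
    fun θ => fam_off h hm hF (good_P h hm hF) θ.1 hS o2 n2.symm hg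
  have fC : ∀ θ, (famIrr h hm hF (good_M h hm hF) θ : Cfsg.Sz F m → ℂ) g = ((pM F m).ε : ℂ) * indT θ.1 g :=
    fun θ => fam_on h hm hF (good_M h hm hF) θ.1 hg
  have h1 := regular_col h hm (g := g) hg1
  rw [hW.sum] at h1
  rw [img_zero h hm hF (good_C h hm hF) (fun θ => by show _ * _ = _; rw [fA, zero_mul]),
    img_zero h hm hF (good_P h hm hF) (fun θ => by show _ * _ = _; rw [fB, zero_mul]),
    img_col h hm hF (good_M h hm hF) hg ((pM F m).d : ℂ) (fun θ => by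
      show _ * _ = _
      rw [fC, famIrr_apply, fam_one])] at h1
  have h2 := norm_col h hm g
  rw [hW.sum, cen_card_tor hS hg] at h2
  have c2 := img_mul h hm hF (good_M h hm hF) hg (inv_mem_conjSet hg)
    (f := fun χ => (χ : Cfsg.Sz F m → ℂ) g * conj ((χ : Cfsg.Sz F m → ℂ) g)) (fun θ => by
      show _ * _ = _
      rw [fC, map_mul, map_intCast, ← conj_indT]
      simp [pM])
  rw [inv_inv, if_pos (IsConj.refl g)] at c2
  rw [img_zero h hm hF (good_C h hm hF) (fun θ => by show _ * _ = _; rw [fA, zero_mul]),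
    img_zero h hm hF (good_P h hm hF) (fun θ => by show _ * _ = _; rw [fB, zero_mul]), c2] at h2
  have hst := st_tor h hm hF (Or.inr (Or.inr rfl)) hg
  rw [if_neg (tori_ne h hm hF).2.symm] at hst
  simp only [oneChar_apply, hst, st_one h hm hF hW, hW.deg₁, hW.deg₂, pM, map_one, map_neg] at h1 h2
  push_cast at h1 h2
  have hs : (W₁ : Cfsg.Sz F m → ℂ) g + (W₂ : Cfsg.Sz F m → ℂ) g + 2 = 0 :=
    (mul_eq_zero.1 (show _ * ((2 : ℂ) ^ m * ((Fintype.card F : ℂ) - 1)) = 0 by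
      linear_combination h1 - ((Fintype.card F : ℂ) - 1) * hr)).resolve_right (w_ne h hm hF hW)
  exact eq_of_sums (v := -1) (by simp) (by linear_combination hs) (by linear_combination h2)

omit hW in
theorem cen_invol {g : Cfsg.Sz F m} (hg : g ∈ conjSet (unip h)) (h2 : g ^ 2 = 1) :
    Nat.card (Subgroup.centralizer ({g} : Set (Cfsg.Sz F m))) = Fintype.card F ^ 2 := by
  obtain ⟨x, c, hc, hc1, rfl⟩ := hg
  rw [conj_pow, conj_eq_one_iff] at h2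
  rw [centralizer_conj, Subgroup.card_map_of_injective (MulAut.conj x).injective, ← h.card_unip]
  have hle := centralizer_unip_le h hm hc hc1
  refine congrArg (fun K : Subgroup (Cfsg.Sz F m) => Nat.card K) (le_antisymm hle ?_)
  obtain ⟨a, b, rfl⟩ := hc
  obtain rfl : a = 0 := eq_zero_of_sq h h2
  rintro _ ⟨c, d, rfl⟩
  rw [mem_centralizer_iff', h.uS_mul, h.uS_mul, sg_zero]
  congr 1 <;> ring

theorem W_invol {g : Cfsg.Sz F m} (hg : g ∈ conjSet (unip h)) (hg2 : g ^ 2 = 1) :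
    (W₁ : Cfsg.Sz F m → ℂ) g = -(2 : ℂ) ^ m ∧ (W₂ : Cfsg.Sz F m → ℂ) g = -(2 : ℂ) ^ m := by
  obtain ⟨hr, hq, e0, e1, e2⟩ := real_facts h hm hF
  have hg1 : g ≠ 1 := by
    obtain ⟨x, c, -, hc1, rfl⟩ := hg
    exact fun z => hc1 (conj_eq_one_iff.1 z)
  have fv : ∀ {T : Subgroup (Cfsg.Sz F m)} {a e : ℕ} {p : Param} (hG : Good h T a e p (TP := TP) (TM := TM)) θ,
      (famIrr h hm hF hG θ : Cfsg.Sz F m → ℂ) g = (p.u₂ : ℂ) := fun {T a e p} hG θ => by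
    rw [famIrr_apply, fam_two h hm T p θ.1 hg, if_pos hg2]
  have h1 := regular_col h hm (g := g) hg1
  rw [hW.sum] at h1
  have a1 := img_const h hm hF (good_C h hm hF) (v := ((pC F).u₂ : ℂ) * (pC F).d)
    (f := fun χ => (χ : Cfsg.Sz F m → ℂ) g * (χ : Cfsg.Sz F m → ℂ) 1)
    (fun θ => by show _ * _ = _; rw [fv, famIrr_apply, fam_one])
  have b1 := img_const h hm hF (good_P h hm hF) (v := ((pP F m).u₂ : ℂ) * (pP F m).d)
    (f := fun χ => (χ : Cfsg.Sz F m → ℂ) g * (χ : Cfsg.Sz F m → ℂ) 1)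
    (fun θ => by show _ * _ = _; rw [fv, famIrr_apply, fam_one])
  have c1 := img_const h hm hF (good_M h hm hF) (v := ((pM F m).u₂ : ℂ) * (pM F m).d)
    (f := fun χ => (χ : Cfsg.Sz F m → ℂ) g * (χ : Cfsg.Sz F m → ℂ) 1)
    (fun θ => by show _ * _ = _; rw [fv, famIrr_apply, fam_one])
  have h2 := norm_col h hm g
  rw [hW.sum, cen_invol h hm hF hg hg2] at h2
  have a2 := img_const h hm hF (good_C h hm hF) (v := ((pC F).u₂ : ℂ) * (pC F).u₂)
    (f := fun χ => (χ : Cfsg.Sz F m → ℂ) g * conj ((χ : Cfsg.Sz F m → ℂ) g))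
    (fun θ => by show _ * _ = _; rw [fv, map_intCast])
  have b2 := img_const h hm hF (good_P h hm hF) (v := ((pP F m).u₂ : ℂ) * (pP F m).u₂)
    (f := fun χ => (χ : Cfsg.Sz F m → ℂ) g * conj ((χ : Cfsg.Sz F m → ℂ) g))
    (fun θ => by show _ * _ = _; rw [fv, map_intCast])
  have c2 := img_const h hm hF (good_M h hm hF) (v := ((pM F m).u₂ : ℂ) * (pM F m).u₂)
    (f := fun χ => (χ : Cfsg.Sz F m → ℂ) g * conj ((χ : Cfsg.Sz F m → ℂ) g))
    (fun θ => by show _ * _ = _; rw [fv, map_intCast])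
  simp only [oneChar_apply, st_unip h hm hF hg, map_one, map_zero, zero_mul, hW.deg₁, hW.deg₂] at h1 h2
  set SA := imgSum h hm hF (good_C h hm hF) fun χ => (χ : Cfsg.Sz F m → ℂ) g * (χ : Cfsg.Sz F m → ℂ) 1
  set SB := imgSum h hm hF (good_P h hm hF) fun χ => (χ : Cfsg.Sz F m → ℂ) g * (χ : Cfsg.Sz F m → ℂ) 1
  set SC := imgSum h hm hF (good_M h hm hF) fun χ => (χ : Cfsg.Sz F m → ℂ) g * (χ : Cfsg.Sz F m → ℂ) 1
  set TA := imgSum h hm hF (good_C h hm hF) fun χ => (χ : Cfsg.Sz F m → ℂ) g * conj ((χ : Cfsg.Sz F m → ℂ) g)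
  set TB := imgSum h hm hF (good_P h hm hF) fun χ => (χ : Cfsg.Sz F m → ℂ) g * conj ((χ : Cfsg.Sz F m → ℂ) g)
  set TC := imgSum h hm hF (good_M h hm hF) fun χ => (χ : Cfsg.Sz F m → ℂ) g * conj ((χ : Cfsg.Sz F m → ℂ) g)
  simp only [e0, e1, e2, pC, pP, pM] at a1 b1 c1 a2 b2 c2
  push_cast at a1 b1 c1 a2 b2 c2 h1 h2
  have hw := w_ne h hm hF hW
  rw [hr] at b1 c1 b2 c2
  have hcs : conj ((2 : ℂ) ^ m) = (2 : ℂ) ^ m := by rw [map_pow, map_ofNat]
  generalize (2 : ℂ) ^ m = s at hcs hq hr hw a1 b1 c1 a2 b2 c2 h1 h2 ⊢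
  rw [hq] at hw a1 b1 c1 a2 b2 c2 h1 h2
  have hs : (W₁ : Cfsg.Sz F m → ℂ) g + (W₂ : Cfsg.Sz F m → ℂ) g + 2 * s = 0 :=
    (mul_eq_zero.1 (show _ * (s * (2 * (s * s) - 1)) = 0 by
      linear_combination h1 - (1 / 2 : ℂ) * a1 - (1 / 4 : ℂ) * b1 - (1 / 4 : ℂ) * c1)).resolve_right hw
  exact eq_of_sums (v := -s) (by rw [map_neg, hcs]) (by linear_combination hs)
    (by linear_combination h2 - (1 / 2 : ℂ) * a2 - (1 / 4 : ℂ) * b2 - (1 / 4 : ℂ) * c2)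

theorem W_four {g : Cfsg.Sz F m} (hg : g ∈ conjSet (unip h)) (hg2 : g ^ 2 ≠ 1) :
    (W₂ : Cfsg.Sz F m → ℂ) g = -(W₁ : Cfsg.Sz F m → ℂ) g ∧
      (W₁ : Cfsg.Sz F m → ℂ) g * (W₁ : Cfsg.Sz F m → ℂ) g = -((Fintype.card F : ℂ) / 2) := by
  obtain ⟨hr, hq, e0, e1, e2⟩ := real_facts h hm hF
  have hg1 : g ≠ 1 := fun z => hg2 (by rw [z, one_pow])
  have fv : ∀ {T : Subgroup (Cfsg.Sz F m)} {a e : ℕ} {p : Param} (hG : Good h T a e p (TP := TP) (TM := TM)) θ,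
      (famIrr h hm hF hG θ : Cfsg.Sz F m → ℂ) g = (p.u₄ : ℂ) := fun {T a e p} hG θ => by
    rw [famIrr_apply, fam_two h hm T p θ.1 hg, if_neg hg2]
  have fi : ∀ {T : Subgroup (Cfsg.Sz F m)} {a e : ℕ} {p : Param} (hG : Good h T a e p (TP := TP) (TM := TM)) θ,
      (famIrr h hm hF hG θ : Cfsg.Sz F m → ℂ) g⁻¹ = (p.u₄ : ℂ) := fun {T a e p} hG θ => by
    rw [famIrr_apply, fam_two h hm T p θ.1 (inv_mem_conjSet hg), if_neg (by simpa [inv_pow] using hg2)]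
  have h1 := regular_col h hm (g := g) hg1
  rw [hW.sum] at h1
  have a1 := img_const h hm hF (good_C h hm hF) (v := ((pC F).u₄ : ℂ) * (pC F).d)
    (f := fun χ => (χ : Cfsg.Sz F m → ℂ) g * (χ : Cfsg.Sz F m → ℂ) 1)
    (fun θ => by show _ * _ = _; rw [fv, famIrr_apply, fam_one])
  have b1 := img_const h hm hF (good_P h hm hF) (v := ((pP F m).u₄ : ℂ) * (pP F m).d)
    (f := fun χ => (χ : Cfsg.Sz F m → ℂ) g * (χ : Cfsg.Sz F m → ℂ) 1)
    (fun θ => by show _ * _ = _; rw [fv, famIrr_apply, fam_one])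
  have c1 := img_const h hm hF (good_M h hm hF) (v := ((pM F m).u₄ : ℂ) * (pM F m).d)
    (f := fun χ => (χ : Cfsg.Sz F m → ℂ) g * (χ : Cfsg.Sz F m → ℂ) 1)
    (fun θ => by show _ * _ = _; rw [fv, famIrr_apply, fam_one])
  have h2 := Cfsg.Agent.Lib.Characters.Complete.sum_irr_mul_conj g g⁻¹
  rw [if_neg (fun z => by
    obtain ⟨k, hk⟩ := isConj_iff.1 z
    obtain ⟨x, c, ⟨a, b, rfl⟩, -, rfl⟩ := hg
    refine not_conj_inv h hm (a := a) (b := b) (fun ha => hg2 ?_) (x⁻¹ * k * x) ?_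
    · rw [conj_pow, conj_eq_one_iff, ha, h.uS_sq, sg_zero, zero_mul, h.uS_zero]
    · calc x⁻¹ * k * x * uS h a b * (x⁻¹ * k * x)⁻¹ = x⁻¹ * (k * (x * uS h a b * x⁻¹) * k⁻¹) * x := by group
        _ = _ := by rw [hk]; group),
    hW.sum] at h2
  have hconj : ∀ χ : Cfsg.IrrCharacter (Cfsg.Sz F m),
      conj ((χ : Cfsg.Sz F m → ℂ) g⁻¹) = (χ : Cfsg.Sz F m → ℂ) g := fun χ => by
    rw [apply_inv (isCharacter_irr χ), Complex.conj_conj]
  have a2 := img_const h hm hF (good_C h hm hF) (v := ((pC F).u₄ : ℂ) * (pC F).u₄)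
    (f := fun χ => (χ : Cfsg.Sz F m → ℂ) g * conj ((χ : Cfsg.Sz F m → ℂ) g⁻¹))
    (fun θ => by show _ * _ = _; rw [fv, fi, map_intCast])
  have b2 := img_const h hm hF (good_P h hm hF) (v := ((pP F m).u₄ : ℂ) * (pP F m).u₄)
    (f := fun χ => (χ : Cfsg.Sz F m → ℂ) g * conj ((χ : Cfsg.Sz F m → ℂ) g⁻¹))
    (fun θ => by show _ * _ = _; rw [fv, fi, map_intCast])
  have c2 := img_const h hm hF (good_M h hm hF) (v := ((pM F m).u₄ : ℂ) * (pM F m).u₄)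
    (f := fun χ => (χ : Cfsg.Sz F m → ℂ) g * conj ((χ : Cfsg.Sz F m → ℂ) g⁻¹))
    (fun θ => by show _ * _ = _; rw [fv, fi, map_intCast])
  simp only [hconj W₁, hconj W₂, hconj (oneChar _), hconj (stIrr h hm hF)] at h2
  simp only [oneChar_apply, st_unip h hm hF hg, zero_mul, hW.deg₁, hW.deg₂] at h1 h2
  set SA := imgSum h hm hF (good_C h hm hF) fun χ => (χ : Cfsg.Sz F m → ℂ) g * (χ : Cfsg.Sz F m → ℂ) 1
  set SB := imgSum h hm hF (good_P h hm hF) fun χ => (χ : Cfsg.Sz F m → ℂ) g * (χ : Cfsg.Sz F m → ℂ) 1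
  set SC := imgSum h hm hF (good_M h hm hF) fun χ => (χ : Cfsg.Sz F m → ℂ) g * (χ : Cfsg.Sz F m → ℂ) 1
  set TA := imgSum h hm hF (good_C h hm hF) fun χ => (χ : Cfsg.Sz F m → ℂ) g * conj ((χ : Cfsg.Sz F m → ℂ) g⁻¹)
  set TB := imgSum h hm hF (good_P h hm hF) fun χ => (χ : Cfsg.Sz F m → ℂ) g * conj ((χ : Cfsg.Sz F m → ℂ) g⁻¹)
  set TC := imgSum h hm hF (good_M h hm hF) fun χ => (χ : Cfsg.Sz F m → ℂ) g * conj ((χ : Cfsg.Sz F m → ℂ) g⁻¹)
  simp only [e0, e1, e2, pC, pP, pM] at a1 b1 c1 a2 b2 c2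
  push_cast at a1 b1 c1 a2 b2 c2 h1 h2
  have hw := w_ne h hm hF hW
  simp only [hr] at b1 c1
  generalize (2 : ℂ) ^ m = s at hq hr hw a1 b1 c1 a2 b2 c2 h1 h2
  simp only [hq] at hw a1 b1 c1 a2 b2 c2 h1
  have hs : (W₁ : Cfsg.Sz F m → ℂ) g + (W₂ : Cfsg.Sz F m → ℂ) g = 0 :=
    (mul_eq_zero.1 (show _ * (s * (2 * (s * s) - 1)) = 0 by
      linear_combination h1 - (1 / 2 : ℂ) * a1 - (1 / 4 : ℂ) * b1 - (1 / 4 : ℂ) * c1)).resolve_right hw
  refine ⟨by linear_combination hs, ?_⟩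
  rw [hq]
  linear_combination (1 / 2 : ℂ) * h2 - (1 / 4 : ℂ) * a2 - (1 / 8 : ℂ) * b2 - (1 / 8 : ℂ) * c2 +
    (1 / 2 : ℂ) * ((W₁ : Cfsg.Sz F m → ℂ) g - (W₂ : Cfsg.Sz F m → ℂ) g) * hs

end Cfsg.Agent.Lib.SzChars.Values
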